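import Cfsg.Agent.Omega.Transv.Min

/-!
# Minimal parabolics with transvections: centres and axes

`Pt T M v0 ψ0`: `v0` is the fixed vector and `ψ0` the fixed functional of the Sylow subgroup. An axis has only one
centre, a centre has only one axis, and `φ_d(a_e) = φ_e(a_d)`.
-/

set_option autoImplicit false

namespace Cfsg.Agent.Omega.Transv

open Subgroup

variable {P : Type*} [Group P] {V : Type*} [AddCommGroup V] [Module (ZMod 2) V] [DistribMulAction P V]

/-- the centre of a transvection -/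
noncomputable def ctr (V : Type*) [AddCommGroup V] [Module (ZMod 2) V] [DistribMulAction P V] (d : P) : V := by
  classical
  exact if h : ∃ (a : V) (φ : Du V), Tv d a φ then h.choose else 0

/-- the axis of a transvection -/
noncomputable def fn (V : Type*) [AddCommGroup V] [Module (ZMod 2) V] [DistribMulAction P V] (d : P) : Du V := by
  classical
  exact if h : ∃ (a : V) (φ : Du V), Tv d a φ then h.choose_spec.choose else 0

theorem tv_of_mem {d : P} (h : d ∈ DD P V) : Tv d (ctr V d) (fn V d) := by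
  have h' : ∃ (a : V) (φ : Du V), Tv d a φ := h
  rw [ctr, fn, dif_pos h', dif_pos h']
  exact h'.choose_spec.choose_spec

theorem Tv.mem {d : P} {a : V} {φ : Du V} (h : Tv d a φ) : d ∈ DD P V := ⟨a, φ, h⟩

theorem Tv.ctr_eq {d : P} {a : V} {φ : Du V} (h : Tv d a φ) : ctr V d = a := ((tv_of_mem h.mem).unique h).1

theorem Tv.fn_eq {d : P} {a : V} {φ : Du V} (h : Tv d a φ) : fn V d = φ := ((tv_of_mem h.mem).unique h).2

theorem ctr_conj {d : P} (h : d ∈ DD P V) (g : P) : ctr V (g * d * g⁻¹) = g • ctr V d :=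
  ((tv_of_mem h).conj g).ctr_eq

theorem fn_conj {d : P} (h : d ∈ DD P V) (g : P) : fn V (g * d * g⁻¹) = dua g (fn V d) :=
  ((tv_of_mem h).conj g).fn_eq

theorem fn_conj_apply {d : P} (h : d ∈ DD P V) (g : P) (v : V) : fn V (g * d * g⁻¹) (g • v) = fn V d v := by
  rw [fn_conj h, dua_apply, inv_smul_smul]

/-- the contragredient action -/
@[reducible] def dualAct (P V : Type*) [Group P] [AddCommGroup V] [Module (ZMod 2) V] [DistribMulAction P V] :
    DistribMulAction P (Du V) where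
  smul := dua
  one_smul φ := by
    ext v
    change φ ((1 : P)⁻¹ • v) = φ v
    rw [inv_one, one_smul]
  mul_smul g h φ := by
    ext v
    change φ ((g * h)⁻¹ • v) = φ (h⁻¹ • g⁻¹ • v)
    rw [mul_inv_rev, mul_smul]
  smul_zero g := by
    ext v
    rfl
  smul_add g φ ψ := by
    ext v
    rfl

/-- the fixed vector and the fixed functional -/
structure Pt (P V : Type*) [Group P] [AddCommGroup V] [Module (ZMod 2) V] [DistribMulAction P V]
    (T : Sylow 2 P) (M : Subgroup P) (v0 : V) (ψ0 : Du V) : Prop extends Hyp P V T M where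
  v_ne : v0 ≠ 0
  v_mem : ∀ g : P, g ∈ M ↔ g • v0 = v0
  v_uniq : ∀ v : V, (∀ t ∈ T, t • v = v) → v = 0 ∨ v = v0
  p_mem : ∀ g : P, g ∈ M ↔ ∀ v : V, ψ0 (g • v) = ψ0 v

namespace Hyp

variable {T : Sylow 2 P} {M : Subgroup P}

theorem exists_pt [Finite P] [Finite V] (hH : Hyp P V T M) : ∃ (v0 : V) (ψ0 : Du V), Pt P V T M v0 ψ0 := by
  obtain ⟨d, hd⟩ := hH.tv
  obtain ⟨g, hg⟩ := hH.exists_conj_notMem hd
  have hM : ∃ d ∈ DD P V, d ∉ M := ⟨_, mem_DD_conj hd g, hg⟩
  obtain ⟨v0, h1, h2, h3⟩ := exists_point hH.le hH.max (D := DD P V)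
    (fun N hN ⟨d, hd, hdN⟩ => hH.fix N hN (even_of_mem hH.faith hd hdN))
    (fun d hd g => mem_DD_conj hd g) (fn V) (fun d hd w => (tv_of_mem hd).fix_iff w)
    (fun d hd g w => fn_conj_apply hd g w) hM ⟨_, (tv_of_mem hd).ne⟩
  let := dualAct P V
  have : Finite (Du V) := Finite.of_injective (fun φ : Du V => (φ : V → ZMod 2)) DFunLike.coe_injective
  have hfixd : ∀ N : Subgroup P, N.Normal → (∃ d ∈ DD P V, d ∈ N) → ∀ w : Du V, (∀ n ∈ N, n • w = w) → w = 0 := by
    rintro N hN ⟨d, hd, hdN⟩ w hw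
    refine hH.fixd N hN (even_of_mem hH.faith hd hdN) w fun n hn v => ?_
    have h4 := LinearMap.congr_fun (hw n⁻¹ (N.inv_mem hn)) v
    change w (n⁻¹⁻¹ • v) = w v at h4
    rwa [inv_inv] at h4
  have hz : ∀ d ∈ DD P V, ∀ w : Du V, d • w = w ↔ LinearMap.applyₗ (ctr V d) w = 0 := by
    intro d hd w
    have ht := tv_of_mem hd
    constructor
    · intro h
      obtain ⟨v, hv⟩ := exists_one ht.nz
      have h6 := LinearMap.congr_fun h v
      change w (d⁻¹ • v) = w v at h6
      rw [ht.inv_eq hH.faith, ht.act, hv, one_smul, map_add] at h6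
      exact left_eq_add.mp h6.symm
    · intro h
      ext v
      change w (d⁻¹ • v) = w v
      have h' : w (ctr V d) = 0 := h
      rw [ht.inv_eq hH.faith, ht.act, map_add, map_smul, h', smul_zero, add_zero]
  have hcj : ∀ d ∈ DD P V, ∀ (g : P) (w : Du V),
      LinearMap.applyₗ (ctr V (g * d * g⁻¹)) (g • w) = LinearMap.applyₗ (ctr V d) w := by
    intro d hd g w
    change (dua g w) (ctr V (g * d * g⁻¹)) = w (ctr V d)
    rw [ctr_conj hd, dua_apply, inv_smul_smul]
  obtain ⟨ψ0, -, h5, -⟩ := exists_point (W := Du V) hH.le hH.max (D := DD P V) hfixd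
    (fun d hd g => mem_DD_conj hd g) (fun d => LinearMap.applyₗ (ctr V d)) hz hcj hM ⟨_, (tv_of_mem hd).nz⟩
  refine ⟨v0, ψ0, { hH with v_ne := h1, v_mem := h2, v_uniq := h3, p_mem := fun g => ?_ }⟩
  rw [h5 g]
  constructor
  · intro h v
    have h6 := LinearMap.congr_fun h (g • v)
    change ψ0 (g⁻¹ • g • v) = ψ0 (g • v) at h6
    rw [inv_smul_smul] at h6
    exact h6.symm
  · intro h
    ext v
    change ψ0 (g⁻¹ • v) = ψ0 v
    rw [← h (g⁻¹ • v), smul_inv_smul]

end Hyp

namespace Pt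

variable {T : Sylow 2 P} {M : Subgroup P} {v0 : V} {ψ0 : Du V}

/-- `d ∈ M` in terms of the axis -/
theorem mem_iff (h : Pt P V T M v0 ψ0) {d : P} {a : V} {φ : Du V} (ht : Tv d a φ) : d ∈ M ↔ φ v0 = 0 := by
  rw [h.v_mem, ht.fix_iff]

/-- `d ∈ M` in terms of the centre -/
theorem mem_iff' (h : Pt P V T M v0 ψ0) {d : P} {a : V} {φ : Du V} (ht : Tv d a φ) : d ∈ M ↔ ψ0 a = 0 := by
  rw [h.p_mem]
  constructor
  · intro h1
    obtain ⟨v, hv⟩ := exists_one ht.nz
    have h2 := h1 v
    rw [ht.act, hv, one_smul, map_add] at h2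
    exact left_eq_add.mp h2.symm
  · intro h1 v
    rw [ht.act, map_add, map_smul, h1, smul_zero, add_zero]

theorem notMem_iff (h : Pt P V T M v0 ψ0) {d : P} {a : V} {φ : Du V} (ht : Tv d a φ) : d ∉ M ↔ φ v0 = 1 := by
  rw [h.mem_iff ht]
  exact ⟨eq_one_of_ne, fun h1 h2 => one_ne (h1.symm.trans h2)⟩

theorem notMem_iff' (h : Pt P V T M v0 ψ0) {d : P} {a : V} {φ : Du V} (ht : Tv d a φ) : d ∉ M ↔ ψ0 a = 1 := by
  rw [h.mem_iff' ht]
  exact ⟨eq_one_of_ne, fun h1 h2 => one_ne (h1.symm.trans h2)⟩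

/-- an axis has only one centre -/
theorem eq_of_axis [Finite P] (h : Pt P V T M v0 ψ0) {d e : P} {a b : V} {φ : Du V} (hd : Tv d a φ)
    (he : Tv e b φ) : a = b := by
  by_contra hab
  obtain ⟨g, hg⟩ := h.toHyp.exists_conj_notMem hd.mem
  have h1 := hd.conj g
  have h2 := he.conj g
  have hab' : g • a ≠ g • b := fun h0 => hab (smul_left_cancel g h0)
  have h3 := h1.mul_axis h2 hab'
  have h4 : (dua g φ) v0 = 1 := (h.notMem_iff h1).mp hg
  have h5 := (h.notMem_iff' h1).mp ((h.notMem_iff h1).mpr h4)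
  have h6 := (h.notMem_iff' h2).mp ((h.notMem_iff h2).mpr h4)
  have h7 := (h.notMem_iff' h3).mp ((h.notMem_iff h3).mpr h4)
  rw [map_add, h5, h6] at h7
  exact one_ne (h7.symm.trans one_add_one)

/-- a centre has only one axis -/
theorem eq_of_centre [Finite P] (h : Pt P V T M v0 ψ0) {d e : P} {a : V} {φ ψ : Du V} (hd : Tv d a φ)
    (he : Tv e a ψ) : φ = ψ := by
  by_contra hab
  obtain ⟨g, hg⟩ := h.toHyp.exists_conj_notMem hd.mem
  have h1 := hd.conj g
  have h2 := he.conj g
  have hab' : dua g φ ≠ dua g ψ := by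
    intro h0
    apply hab
    ext v
    have h3 := LinearMap.congr_fun h0 (g • v)
    rwa [dua_apply, dua_apply, inv_smul_smul] at h3
  have h3 := h1.mul_centre h2 hab'
  have h4 : ψ0 (g • a) = 1 := (h.notMem_iff' h1).mp hg
  have h5 := (h.notMem_iff h1).mp ((h.notMem_iff' h1).mpr h4)
  have h6 := (h.notMem_iff h2).mp ((h.notMem_iff' h2).mpr h4)
  have h7 := (h.notMem_iff h3).mp ((h.notMem_iff' h3).mpr h4)
  rw [LinearMap.add_apply, h5, h6] at h7
  exact one_ne (h7.symm.trans one_add_one)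

theorem eq_of_ctr [Finite P] (h : Pt P V T M v0 ψ0) {d e : P} {a : V} {φ ψ : Du V} (hd : Tv d a φ)
    (he : Tv e a ψ) : d = e := by
  have h1 := h.eq_of_centre hd he
  subst h1
  exact hd.ext h.faith he

/-- the symmetry -/
theorem symm [Finite P] (h : Pt P V T M v0 ψ0) {d e : P} {a b : V} {φ ψ : Du V} (hd : Tv d a φ)
    (he : Tv e b ψ) : φ b = ψ a := by
  have key : ∀ {d e : P} {a b : V} {φ ψ : Du V}, Tv d a φ → Tv e b ψ → φ b = 1 → ψ a = 1 := by
    intro d e a b φ ψ hd he h1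
    by_contra h2
    have h3 := hd.conj_tv h.faith he
    rw [eq_zero_of_ne h2, zero_smul, add_zero, h1, one_smul] at h3
    have h4 := h.eq_of_axis he h3
    exact hd.ne (left_eq_add.mp h4)
  rcases zmod_cases (φ b) with h1 | h1
  · rcases zmod_cases (ψ a) with h2 | h2
    · rw [h1, h2]
    · exact absurd (key he hd h2) (by rw [h1]; exact fun h0 => one_ne h0.symm)
  · rw [h1, key hd he h1]

/-- orthogonal transvections commute -/
theorem comm_of_zero [Finite P] (h : Pt P V T M v0 ψ0) {d e : P} {a b : V} {φ ψ : Du V} (hd : Tv d a φ)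
    (he : Tv e b ψ) (h0 : φ b = 0) : d * e = e * d := by
  have h1 := h.symm hd he
  refine h.faith.ext fun v => ?_
  rw [mul_smul, mul_smul, he.act, hd.act, hd.act, he.act, map_add, map_add, map_smul, map_smul, h0, ← h1, h0,
    smul_zero, smul_zero, add_zero, add_zero]
  abel

/-- commuting transvections are orthogonal -/
theorem zero_of_comm [Finite P] (h : Pt P V T M v0 ψ0) {d e : P} {a b : V} {φ ψ : Du V} (hd : Tv d a φ)
    (he : Tv e b ψ) (hc : d * e = e * d) : φ b = 0 := by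
  by_contra h0
  have h1 := eq_one_of_ne h0
  have h3 := hd.conj_tv h.faith he
  have h4 : d * e * d = e := by rw [hc, mul_assoc, hd.mul_self h.faith, mul_one]
  rw [h4, h1, one_smul] at h3
  have h5 := (he.unique h3).1
  exact hd.ne (left_eq_add.mp h5)

/-- the third transvection -/
theorem third [Finite P] (h : Pt P V T M v0 ψ0) {d e : P} {a b : V} {φ ψ : Du V} (hd : Tv d a φ)
    (he : Tv e b ψ) (h1 : φ b = 1) : Tv (d * e * d) (a + b) (φ + ψ) := by
  have h3 := hd.conj_tv h.faith he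
  rw [h1, one_smul, ← h.symm hd he, h1, one_smul] at h3
  rwa [add_comm b a, add_comm ψ φ] at h3

theorem braid [Finite P] (h : Pt P V T M v0 ψ0) {d e : P} {a b : V} {φ ψ : Du V} (hd : Tv d a φ)
    (he : Tv e b ψ) (h1 : φ b = 1) : d * e * d = e * d * e := by
  have h2 := h.third hd he h1
  have h3 := h.third he hd (by rw [← h.symm hd he, h1])
  rw [add_comm b a, add_comm ψ φ] at h3
  exact h2.ext h.faith h3

end Pt

end Cfsg.Agent.Omega.Transv
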