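import Cfsg.Agent.Omega.Transv.Main

/-!
# Minimal parabolics with transvections: reduction to a module without fixed points

`Gen T M`: `P` acts faithfully on the `F₂`-space `V`, `O₂(P) = 1`, `M` is the only maximal subgroup over the Sylow
2-subgroup `T`, and `P` contains a transvection `d`. With `N` the normal closure of `d`, the group `P` acts faithfully
on `[V, N] / C_{[V, N]}(N)` and satisfies `Hyp` there.
-/

set_option autoImplicit false

namespace Cfsg.Agent.Omega.Transv

open Subgroup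

variable {P : Type*} [Group P] {V : Type*} [AddCommGroup V] [Module (ZMod 2) V] [DistribMulAction P V]

/-- invariant subspaces -/
def Inv (P : Type*) {V : Type*} [Group P] [AddCommGroup V] [Module (ZMod 2) V] [DistribMulAction P V]
    (W : Submodule (ZMod 2) V) : Prop := ∀ g : P, ∀ v ∈ W, g • v ∈ W

/-- the action on an invariant subspace -/
@[reducible] def subAct {W : Submodule (ZMod 2) V} (h : Inv P W) : DistribMulAction P W where
  smul g v := ⟨g • (v : V), h g v v.2⟩
  one_smul v := Subtype.ext (one_smul P (v : V))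
  mul_smul g k v := Subtype.ext (mul_smul g k (v : V))
  smul_zero g := Subtype.ext (smul_zero g)
  smul_add g v w := Subtype.ext (smul_add g (v : V) w)

/-- the linear map of an element -/
def lin (g : P) : V →ₗ[ZMod 2] V where
  toFun v := g • v
  map_add' v w := smul_add g v w
  map_smul' c v := smul_zmod g c v

@[simp] theorem lin_apply (g : P) (v : V) : lin g v = g • v := rfl

/-- the action on a quotient -/
@[reducible] def quoAct {W : Submodule (ZMod 2) V} (h : Inv P W) : DistribMulAction P (V ⧸ W) where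
  smul g := W.mapQ W (lin g) fun v hv => h g v hv
  one_smul v := by
    induction v using Submodule.Quotient.induction_on with
    | H v => exact congrArg _ (one_smul P v)
  mul_smul g k v := by
    induction v using Submodule.Quotient.induction_on with
    | H v => exact congrArg _ (mul_smul g k v)
  smul_zero g := LinearMap.map_zero _
  smul_add g v w := LinearMap.map_add _ v w

/-- the fixed vectors of a subgroup -/
def fixS (V : Type*) [AddCommGroup V] [Module (ZMod 2) V] [DistribMulAction P V] (N : Subgroup P) :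
    Submodule (ZMod 2) V where
  carrier := {v | ∀ n ∈ N, n • v = v}
  zero_mem' := fun n _ => smul_zero n
  add_mem' := fun {v w} hv hw n hn => by rw [smul_add, hv n hn, hw n hn]
  smul_mem' := fun c v hv n hn => by rw [smul_zmod, hv n hn]

theorem mem_fixS {N : Subgroup P} {v : V} : v ∈ fixS V N ↔ ∀ n ∈ N, n • v = v := Iff.rfl

theorem inv_fixS {N : Subgroup P} (hN : N.Normal) : Inv P (fixS V N) := by
  intro g v hv n hn
  have h1 := hv _ (hN.conj_mem n hn g⁻¹)
  rw [inv_inv, mul_smul, mul_smul, inv_smul_eq_iff] at h1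
  exact h1

/-- the general hypotheses -/
structure Gen (P V : Type*) [Group P] [AddCommGroup V] [Module (ZMod 2) V] [DistribMulAction P V]
    (T : Sylow 2 P) (M : Subgroup P) : Prop where
  faith : Faith P V
  le : (T : Subgroup P) ≤ M
  ne : M ≠ ⊤
  max : ∀ X : Subgroup P, (T : Subgroup P) ≤ X → X ≤ M ∨ X = ⊤
  core : ∀ N : Subgroup P, N.Normal → IsPGroup 2 N → N = ⊥
  tv : (DD P V).Nonempty

/-- a normal subgroup of even order covers `P/T` -/
theorem sup_eq_of [Finite P] {T : Sylow 2 P} {M : Subgroup P} (hne : M ≠ ⊤)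
    (hmax : ∀ X : Subgroup P, (T : Subgroup P) ≤ X → X ≤ M ∨ X = ⊤)
    (hcore : ∀ N : Subgroup P, N.Normal → IsPGroup 2 N → N = ⊥) {N : Subgroup P} (hN : N.Normal)
    (he : 2 ∣ Nat.card N) : N ⊔ (T : Subgroup P) = ⊤ := by
  rcases hmax (N ⊔ (T : Subgroup P)) le_sup_right with h | h
  · exact absurd (le_sup_left.trans h) (not_le_of hne hmax hcore hN he)
  · exact h

theorem exists_pow_mem {T : Sylow 2 P} {N : Subgroup P} (hN : N.Normal) (h : N ⊔ (T : Subgroup P) = ⊤) (g : P) :
    ∃ n : ℕ, g ^ (2 ^ n) ∈ N := by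
  have h1 : g ∈ N ⊔ (T : Subgroup P) := by
    rw [h]
    exact mem_top g
  obtain ⟨x, hx, t, ht, rfl⟩ := mem_sup_of_normal_left.mp h1
  obtain ⟨n, hn⟩ := T.isPGroup' ⟨t, ht⟩
  have hn' : t ^ (2 ^ n) = 1 := congrArg Subtype.val hn
  refine ⟨n, ?_⟩
  have h2 : QuotientGroup.mk' N ((x * t) ^ (2 ^ n)) = 1 := by
    have h3 : QuotientGroup.mk' N x = 1 := (QuotientGroup.eq_one_iff x).mpr hx
    rw [map_pow, map_mul, h3, one_mul, ← map_pow, hn', map_one]
  exact (QuotientGroup.eq_one_iff _).mp h2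

theorem Tv.comm (hf : Faith P V) {d e : P} {a b : V} {φ ψ : Du V} (hd : Tv d a φ) (he : Tv e b ψ)
    (h0 : φ b = 0) (h1 : ψ a = 0) : d * e = e * d := by
  refine hf.ext fun v => ?_
  rw [mul_smul, mul_smul, he.act, hd.act, hd.act, he.act, map_add, map_add, map_smul, map_smul, h0, h1,
    smul_zero, smul_zero, add_zero, add_zero]
  abel

/-- the span of the conjugates of the centre -/
def cen (P : Type*) {V : Type*} [Group P] [AddCommGroup V] [Module (ZMod 2) V] [DistribMulAction P V] (a : V) :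
    Submodule (ZMod 2) V := Submodule.span (ZMod 2) (Set.range fun g : P => g • a)

theorem smul_mem_cen (g : P) (a : V) : g • a ∈ cen P a := Submodule.subset_span ⟨g, rfl⟩

theorem inv_cen (a : V) : Inv P (cen P a) := by
  intro g v hv
  have h1 : cen P a ≤ (cen P a).comap (lin g : V →ₗ[ZMod 2] V) := by
    rw [cen, Submodule.span_le]
    rintro _ ⟨k, rfl⟩
    change g • k • a ∈ cen P a
    rw [← mul_smul]
    exact smul_mem_cen _ a
  exact h1 hv

namespace Gen

variable {T : Sylow 2 P} {M : Subgroup P} {d : P} {a : V} {φ : Du V}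

theorem closure_eq : normalClosure {d} = closure (Set.range fun g : P => g * d * g⁻¹) := by
  rw [normalClosure]
  congr 1
  ext x
  rw [Group.mem_conjugatesOfSet_iff]
  constructor
  · rintro ⟨y, hy, hc⟩
    rw [Set.mem_singleton_iff] at hy
    subst hy
    obtain ⟨g, hg⟩ := isConj_iff.mp hc
    exact ⟨g, hg⟩
  · rintro ⟨g, rfl⟩
    exact ⟨d, rfl, isConj_iff.mpr ⟨g, rfl⟩⟩

theorem conj_mem (g : P) : g * d * g⁻¹ ∈ normalClosure {d} :=
  normalClosure_normal.conj_mem d (subset_normalClosure (Set.mem_singleton d)) g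

/-- the conjugates of a transvection do not all commute -/
theorem exists_smul_one (hG : Gen P V T M) (hd : Tv d a φ) : ∃ g : P, φ (g • a) = 1 := by
  by_contra hcon
  push Not at hcon
  have h0 : ∀ g : P, φ (g • a) = 0 := fun g => eq_zero_of_ne (hcon g)
  have h1 : Com V (Set.range fun g : P => g * d * g⁻¹) := by
    refine ⟨?_, ?_⟩
    · rintro _ ⟨g, rfl⟩
      exact mem_DD_conj hd.mem g
    · rintro _ ⟨g, rfl⟩ _ ⟨k, rfl⟩
      refine (hd.conj g).comm hG.faith (hd.conj k) ?_ ?_
      · rw [dua_apply, ← mul_smul]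
        exact h0 _
      · rw [dua_apply, ← mul_smul]
        exact h0 _
  have h2 := h1.isPGroup hG.faith
  rw [← closure_eq] at h2
  have h3 := hG.core _ normalClosure_normal h2
  have h4 : d ∈ normalClosure {d} := subset_normalClosure rfl
  rw [h3, mem_bot] at h4
  exact hd.ne_one h4

theorem exists_one_of (hG : Gen P V T M) (hd : Tv d a φ) (g : P) : ∃ v ∈ cen P a, (dua g φ) v = 1 := by
  obtain ⟨k, hk⟩ := hG.exists_smul_one hd
  refine ⟨(g * k) • a, smul_mem_cen _ a, ?_⟩
  rw [dua_apply, mul_smul, inv_smul_smul]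
  exact hk

theorem mem_fixS_iff (hd : Tv d a φ) (v : V) :
    v ∈ fixS V (normalClosure {d}) ↔ ∀ g : P, (dua g φ) v = 0 := by
  constructor
  · intro h g
    exact ((hd.conj g).fix_iff v).mp (h _ (conj_mem g))
  · intro h n hn
    rw [closure_eq] at hn
    have h1 : closure (Set.range fun g : P => g * d * g⁻¹) ≤ MulAction.stabilizer P v := by
      rw [closure_le]
      rintro _ ⟨g, rfl⟩
      exact ((hd.conj g).fix_iff v).mpr (h g)
    exact h1 hn

theorem notMem_fixS (hG : Gen P V T M) (hd : Tv d a φ) (g : P) : g • a ∉ fixS V (normalClosure {d}) := by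
  rw [mem_fixS_iff hd]
  intro h
  obtain ⟨k, hk⟩ := hG.exists_smul_one hd
  have h1 := h (g * k⁻¹)
  rw [dua_apply, mul_inv_rev, inv_inv, mul_smul, inv_smul_smul, hk] at h1
  exact one_ne h1

theorem add_mem_cen (hd : Tv d a φ) {n : P} (hn : n ∈ normalClosure {d}) (v : V) : n • v + v ∈ cen P a := by
  rw [closure_eq] at hn
  induction hn using closure_induction generalizing v with
  | mem x hx =>
    obtain ⟨g, rfl⟩ := hx
    have h1 : (fun g : P => g * d * g⁻¹) g = g * d * g⁻¹ := rfl
    rw [h1, (hd.conj g).act, Fr.cancel_right]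
    exact Submodule.smul_mem _ _ (smul_mem_cen g a)
  | one =>
    rw [one_smul, add_self]
    exact Submodule.zero_mem _
  | mul x y hx hy ihx ihy =>
    have h1 : (x * y) • v + v = (x • (y • v) + y • v) + (y • v + v) := by
      rw [mul_smul, add_assoc, ← add_assoc (y • v), add_self, zero_add]
    rw [h1]
    exact Submodule.add_mem _ (ihx _) (ihy _)
  | inv x hx ih =>
    have h1 := ih (x⁻¹ • v)
    rw [smul_inv_smul, add_comm] at h1
    exact h1

section Sect

variable {W : Type*} [AddCommGroup W] [Module (ZMod 2) W] [DistribMulAction P W]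
  {p : cen P a →ₗ[ZMod 2] W}

/-- the section is faithful -/
theorem faith_sect [Finite P] (hG : Gen P V T M) (hd : Tv d a φ)
    (heq : ∀ (g : P) (v : cen P a), p ⟨g • (v : V), inv_cen a g v v.2⟩ = g • p v)
    (hker : ∀ v : cen P a, p v = 0 ↔ (v : V) ∈ fixS V (normalClosure {d})) : Faith P W := by
  set N : Subgroup P := normalClosure {d} with hN
  have hNn : N.Normal := normalClosure_normal
  have hNe : 2 ∣ Nat.card N := even_of_mem hG.faith hd.mem (subset_normalClosure rfl)
  have hNT := sup_eq_of hG.ne hG.max hG.core hNn hNe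
  let K : Subgroup P :=
    { carrier := {g | ∀ w : cen P a, g • p w = p w}
      one_mem' := fun w => one_smul _ _
      mul_mem' := fun {x y} hx hy w => by rw [mul_smul, hy w, hx w]
      inv_mem' := fun {x} hx w => by rw [inv_smul_eq_iff, hx w] }
  have hKn : K.Normal := by
    refine ⟨fun n hn g w => ?_⟩
    rw [mul_smul, mul_smul, ← heq, hn, heq, smul_inv_smul]
  -- `K ∩ N` is a 2-group
  have hKN : K ⊓ N = ⊥ := by
    refine hG.core _ inferInstance ?_
    rintro ⟨g, hgK, hgN⟩
    refine ⟨2, Subtype.ext ?_⟩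
    change g ^ (2 ^ 2) = 1
    have h1 : ∀ v : V, v ∈ cen P a → g • v + v ∈ fixS V N := by
      intro v hv
      have h2 := hgK ⟨v, hv⟩
      rw [← heq] at h2
      have h3 : p (⟨g • v, inv_cen a g v hv⟩ + ⟨v, hv⟩) = 0 := by
        rw [map_add, h2, add_self]
      exact (hker _).mp h3
    have h2 : ∀ v : V, v ∈ cen P a → (g * g) • v = v := by
      intro v hv
      have h3 := h1 v hv g hgN
      rw [smul_add, ← mul_smul] at h3
      have h4 : (g * g) • v + g • v + g • v = g • v + v + g • v := by rw [h3]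
      rw [add_add_self, Fr.cancel_right] at h4
      exact h4
    refine hG.faith _ fun v => ?_
    have h3 : (g * g) • v + v ∈ cen P a := add_mem_cen hd (mul_mem hgN hgN) v
    have h4 := h2 _ h3
    rw [smul_add, ← mul_smul] at h4
    have h5 : (g * g * (g * g)) • v + (g * g) • v + (g * g) • v = (g * g) • v + v + (g * g) • v := by rw [h4]
    rw [add_add_self, Fr.cancel_right] at h5
    have h6 : g ^ (2 ^ 2) = g * g * (g * g) := by
      rw [show (2 : ℕ) ^ 2 = 2 + 2 by norm_num, pow_add, pow_two]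
    rw [h6]
    exact h5
  have hK : K = ⊥ := by
    refine hG.core _ hKn ?_
    rintro ⟨g, hgK⟩
    obtain ⟨n, hn⟩ := exists_pow_mem hNn hNT g
    refine ⟨n, Subtype.ext ?_⟩
    have h1 : g ^ (2 ^ n) ∈ K ⊓ N := ⟨K.pow_mem hgK _, hn⟩
    rw [hKN, mem_bot] at h1
    exact h1
  intro g hg
  have h1 : g ∈ K := fun w => hg _
  rw [hK, mem_bot] at h1
  exact h1

/-- no fixed vectors of `N` -/
theorem fix_sect (hG : Gen P V T M) (hd : Tv d a φ) (hp : Function.Surjective p)
    (heq : ∀ (g : P) (v : cen P a), p ⟨g • (v : V), inv_cen a g v v.2⟩ = g • p v)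
    (hker : ∀ v : cen P a, p v = 0 ↔ (v : V) ∈ fixS V (normalClosure {d})) {w : W}
    (hw : ∀ n ∈ normalClosure {d}, n • w = w) : w = 0 := by
  obtain ⟨⟨v, hv⟩, rfl⟩ := hp w
  rw [hker]
  rw [mem_fixS_iff hd]
  intro g
  refine eq_zero_of_ne fun h1 => ?_
  have h2 := hw _ (conj_mem g)
  rw [← heq] at h2
  have h3 : p (⟨(g * d * g⁻¹) • v, inv_cen a _ v hv⟩ + ⟨v, hv⟩) = 0 := by
    rw [map_add, h2, add_self]
  have h4 := (hker _).mp h3
  change (g * d * g⁻¹) • v + v ∈ _ at h4
  rw [(hd.conj g).act, h1, one_smul, Fr.cancel_right] at h4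
  exact hG.notMem_fixS hd g h4

/-- no fixed functionals of `N` -/
theorem fixd_sect (hG : Gen P V T M) (hd : Tv d a φ) (hp : Function.Surjective p)
    (heq : ∀ (g : P) (v : cen P a), p ⟨g • (v : V), inv_cen a g v v.2⟩ = g • p v) {f : Du W}
    (hf : ∀ n ∈ normalClosure {d}, ∀ w : W, f (n • w) = f w) : f = 0 := by
  have h1 : ∀ g : P, f (p ⟨g • a, smul_mem_cen g a⟩) = 0 := by
    intro g
    obtain ⟨v, hv, h1⟩ := hG.exists_one_of hd g
    have h2 := hf _ (conj_mem g) (p ⟨v, hv⟩)
    rw [← heq] at h2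
    have h3 : (⟨(g * d * g⁻¹) • v, inv_cen a _ v hv⟩ : cen P a) = ⟨v, hv⟩ + ⟨g • a, smul_mem_cen g a⟩ := by
      apply Subtype.ext
      change (g * d * g⁻¹) • v = v + g • a
      rw [(hd.conj g).act, h1, one_smul]
    have h4 : f (p ⟨(g * d * g⁻¹) • v, inv_cen a _ v hv⟩) = f (p ⟨v, hv⟩) + f (p ⟨g • a, smul_mem_cen g a⟩) := by
      rw [h3, map_add, map_add]
    have h5 : f (p ⟨v, hv⟩) + f (p ⟨g • a, smul_mem_cen g a⟩) = f (p ⟨v, hv⟩) := by
      rw [← h4]
      exact h2
    exact left_eq_add.mp h5.symm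
  ext w
  obtain ⟨⟨v, hv⟩, rfl⟩ := hp w
  have h2 : ∀ (v : V) (hv : v ∈ cen P a), f (p ⟨v, hv⟩) = 0 := by
    intro v hv
    induction hv using Submodule.span_induction with
    | mem x hx =>
      obtain ⟨g, rfl⟩ := hx
      exact h1 g
    | zero => exact (f.comp p).map_zero
    | add x y hx hy ihx ihy =>
      have h3 : f (p ⟨x + y, Submodule.add_mem _ hx hy⟩) = f (p ⟨x, hx⟩) + f (p ⟨y, hy⟩) :=
        (f.comp p).map_add ⟨x, hx⟩ ⟨y, hy⟩
      rw [h3, ihx, ihy, add_zero]
    | smul c x hx ih =>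
      have h3 : f (p ⟨c • x, Submodule.smul_mem _ c hx⟩) = c • f (p ⟨x, hx⟩) :=
        (f.comp p).map_smul c ⟨x, hx⟩
      rw [h3, ih, smul_zero]
  exact h2 v hv

omit [DistribMulAction P W] in
/-- functionals on the section -/
theorem exists_lift (hp : Function.Surjective p) (f : Du V) (h0 : ∀ v : cen P a, p v = 0 → f v = 0) :
    ∃ f' : Du W, ∀ v : cen P a, f' (p v) = f v := by
  have h1 : LinearMap.ker p ≤ LinearMap.ker (f.comp (cen P a).subtype) := by
    intro v hv
    exact h0 v hv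
  refine ⟨((LinearMap.ker p).liftQ (f.comp (cen P a).subtype) h1).comp
    (p.quotKerEquivOfSurjective hp).symm.toLinearMap, fun v => ?_⟩
  have h2 : (p.quotKerEquivOfSurjective hp).symm (p v) = Submodule.Quotient.mk v := by
    rw [LinearEquiv.symm_apply_eq]
    rfl
  change ((LinearMap.ker p).liftQ (f.comp (cen P a).subtype) h1) ((p.quotKerEquivOfSurjective hp).symm (p v)) = f v
  rw [h2]
  rfl

/-- transvections on the section -/
theorem tv_sect (hp : Function.Surjective p)
    (heq : ∀ (g : P) (v : cen P a), p ⟨g • (v : V), inv_cen a g v v.2⟩ = g • p v)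
    (hker : ∀ v : cen P a, p v = 0 ↔ (v : V) ∈ fixS V (normalClosure {d})) {e : P} {b : V} {ψ : Du V}
    (he : Tv e b ψ) (hb : b ∈ cen P a) (hb' : b ∉ fixS V (normalClosure {d})) (h1 : ∃ v ∈ cen P a, ψ v = 1)
    (h0 : ∀ v ∈ fixS V (normalClosure {d}), ψ v = 0) :
    ∃ ψ' : Du W, Tv e (p ⟨b, hb⟩) ψ' ∧ ∀ v : cen P a, ψ' (p v) = ψ v := by
  obtain ⟨ψ', hψ⟩ := exists_lift hp ψ fun v hv => h0 _ ((hker v).mp hv)
  refine ⟨ψ', ⟨?_, ?_, ?_⟩, hψ⟩
  · intro h2
    exact hb' ((hker _).mp h2)
  · intro h2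
    obtain ⟨v, hv, h3⟩ := h1
    have h4 := hψ ⟨v, hv⟩
    rw [h2] at h4
    exact zero_ne_one' (h4.trans h3)
  · intro w
    obtain ⟨v, rfl⟩ := hp w
    rw [← heq, hψ, ← map_smul, ← map_add]
    congr 1
    apply Subtype.ext
    exact he.act v

/-- the conjugates of `d` are transvections on the section -/
theorem tv_sect_conj (hG : Gen P V T M) (hd : Tv d a φ) (hp : Function.Surjective p)
    (heq : ∀ (g : P) (v : cen P a), p ⟨g • (v : V), inv_cen a g v v.2⟩ = g • p v)
    (hker : ∀ v : cen P a, p v = 0 ↔ (v : V) ∈ fixS V (normalClosure {d})) (g : P) :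
    ∃ ψ' : Du W, Tv (g * d * g⁻¹) (p ⟨g • a, smul_mem_cen g a⟩) ψ' ∧ ∀ v : cen P a, ψ' (p v) = (dua g φ) v :=
  tv_sect hp heq hker (hd.conj g) (smul_mem_cen g a) (hG.notMem_fixS hd g) (hG.exists_one_of hd g)
    fun v hv => (mem_fixS_iff hd v).mp hv g

/-- fixed points of normal subgroups of even order -/
theorem no_fix {U : Type*} [AddCommGroup U] [Module (ZMod 2) U] [Finite U] [DistribMulAction P U] {N : Subgroup P}
    (hN : N.Normal) (hNT : N ⊔ (T : Subgroup P) = ⊤) [Finite P] (h0 : ∀ u : U, (∀ g : P, g • u = u) → u = 0) (u : U)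
    (hu : ∀ n ∈ N, n • u = u) : u = 0 := by
  by_contra hne
  let := subAct (inv_fixS (V := U) hN)
  have h1 : (⟨u, hu⟩ : fixS U N) ≠ 0 := fun h2 => hne (congrArg Subtype.val h2)
  obtain ⟨w0, hw0, hT⟩ := exists_fixed (Q := T) T.isPGroup' h1
  apply hw0
  apply Subtype.ext
  refine h0 _ fun g => ?_
  have h2 : N ⊔ (T : Subgroup P) ≤ MulAction.stabilizer P (w0 : U) := by
    refine sup_le ?_ ?_
    · intro n hn
      exact w0.2 n hn
    · intro t ht
      exact congrArg Subtype.val (hT ⟨t, ht⟩)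
  rw [hNT] at h2
  exact h2 (mem_top g)

/-- the section satisfies `Hyp` -/
theorem hyp_sect [Finite P] [Finite W] (hG : Gen P V T M) (hd : Tv d a φ) (hp : Function.Surjective p)
    (heq : ∀ (g : P) (v : cen P a), p ⟨g • (v : V), inv_cen a g v v.2⟩ = g • p v)
    (hker : ∀ v : cen P a, p v = 0 ↔ (v : V) ∈ fixS V (normalClosure {d})) : Hyp P W T M where
  faith := faith_sect hG hd heq hker
  le := hG.le
  ne := hG.ne
  max := hG.max
  fix N hN he v hv := by
    refine no_fix (T := T) hN (sup_eq_of hG.ne hG.max hG.core hN he) (fun u hu => ?_) v hv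
    exact fix_sect hG hd hp heq hker fun n _ => hu n
  fixd N hN he f hf := by
    let := dualAct P W
    have : Finite (Du W) := Finite.of_injective (fun φ : Du W => (φ : W → ZMod 2)) DFunLike.coe_injective
    refine no_fix (T := T) hN (sup_eq_of hG.ne hG.max hG.core hN he) (fun u hu => ?_) f fun n hn => ?_
    · refine fixd_sect hG hd hp heq fun n _ w => ?_
      have h1 := LinearMap.congr_fun (hu n⁻¹) w
      change u (n⁻¹⁻¹ • w) = u w at h1
      rwa [inv_inv] at h1
    · ext w
      change f (n⁻¹ • w) = f w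
      exact hf _ (N.inv_mem hn) w
  core := hG.core
  tv := by
    obtain ⟨ψ', h1, -⟩ := tv_sect_conj hG hd hp heq hker 1
    exact ⟨_, _, _, h1⟩

end Sect

end Gen

end Cfsg.Agent.Omega.Transv
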