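import Mathlib

/-!
# Minimal parabolics with transvections: transvections

`Tv d a φ`: `d` acts on the `F₂`-space `V` as the transvection `v ↦ v + φ v • a`.
-/

set_option autoImplicit false

namespace Cfsg.Agent.Omega.Transv

/-- the dual space -/
abbrev Du (V : Type*) [AddCommGroup V] [Module (ZMod 2) V] : Type _ := V →ₗ[ZMod 2] ZMod 2

theorem zmod_cases (c : ZMod 2) : c = 0 ∨ c = 1 := by
  fin_cases c
  · exact Or.inl rfl
  · exact Or.inr rfl

theorem one_add_one : (1 : ZMod 2) + 1 = 0 := by decide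

theorem eq_one_of_ne {c : ZMod 2} (h : c ≠ 0) : c = 1 := (zmod_cases c).resolve_left h

theorem eq_zero_of_ne {c : ZMod 2} (h : c ≠ 1) : c = 0 := (zmod_cases c).resolve_right h

theorem one_ne : (1 : ZMod 2) ≠ 0 := by decide

variable {P : Type*} [Group P] {V : Type*} [AddCommGroup V] [Module (ZMod 2) V]

theorem add_self (v : V) : v + v = 0 := by
  have h : ((1 : ZMod 2) + 1) • v = 0 := by rw [one_add_one, zero_smul]
  rwa [add_smul, one_smul] at h

theorem neg_eq (v : V) : -v = v := by
  rw [neg_eq_iff_add_eq_zero]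
  exact add_self v

theorem eq_of_add {v w : V} (h : v + w = 0) : v = w := by
  rw [← neg_eq w]
  exact eq_neg_of_add_eq_zero_left h

theorem add_add_self (v w : V) : v + w + w = v := by
  rw [add_assoc, add_self, add_zero]

variable [DistribMulAction P V]

theorem smul_zmod (g : P) (c : ZMod 2) (v : V) : g • (c • v) = c • (g • v) := by
  rcases zmod_cases c with h | h
  · subst h; simp
  · subst h; simp

/-- the action on the dual space -/
def dua (g : P) (φ : Du V) : Du V where
  toFun v := φ (g⁻¹ • v)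
  map_add' v w := by rw [smul_add, map_add]
  map_smul' c v := by rw [smul_zmod, map_smul]; rfl

@[simp] theorem dua_apply (g : P) (φ : Du V) (v : V) : dua g φ v = φ (g⁻¹ • v) := rfl

/-- `d` is the transvection with centre `a` and axis `ker φ` -/
structure Tv (d : P) (a : V) (φ : Du V) : Prop where
  ne : a ≠ 0
  nz : φ ≠ 0
  act : ∀ v : V, d • v = v + φ v • a

/-- faithful action -/
def Faith (P V : Type*) [Group P] [AddCommGroup V] [Module (ZMod 2) V] [DistribMulAction P V] : Prop :=
  ∀ g : P, (∀ v : V, g • v = v) → g = 1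

theorem Faith.ext (hf : Faith P V) {g h : P} (H : ∀ v : V, g • v = h • v) : g = h := by
  have h1 : h⁻¹ * g = 1 := by
    refine hf _ fun v => ?_
    rw [mul_smul, H, inv_smul_smul]
  exact (inv_mul_eq_one.mp h1).symm

theorem exists_one {φ : Du V} (h : φ ≠ 0) : ∃ v, φ v = 1 := by
  by_contra hc
  push Not at hc
  apply h
  ext v
  exact eq_zero_of_ne (hc v)

namespace Tv

variable {d e g : P} {a b : V} {φ ψ : Du V}

theorem self (h : Tv d a φ) : φ a = 0 := by
  refine eq_zero_of_ne fun h1 => h.ne ?_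
  have h2 := h.act a
  rw [h1, one_smul, add_self] at h2
  have h3 : d⁻¹ • (d • a) = d⁻¹ • (0 : V) := by rw [h2]
  rwa [inv_smul_smul, smul_zero] at h3

theorem unique (h : Tv d a φ) (h' : Tv d b ψ) : a = b ∧ φ = ψ := by
  obtain ⟨v, hv⟩ := exists_one h.nz
  have h1 := h.act v
  rw [h'.act v, hv, one_smul] at h1
  have h2 : ψ v • b = a := add_left_cancel h1
  have h3 : ψ v = 1 := by
    refine eq_one_of_ne fun h0 => h.ne ?_
    rw [← h2, h0, zero_smul]
  have h4 : a = b := by rw [← h2, h3, one_smul]
  subst h4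
  refine ⟨rfl, ?_⟩
  ext w
  have h5 := h.act w
  rw [h'.act w] at h5
  have h6 : ψ w • a = φ w • a := add_left_cancel h5
  have h7 : (ψ w - φ w) • a = 0 := by rw [sub_smul, h6, sub_self]
  by_contra hc
  have h8 : ψ w - φ w ≠ 0 := fun h0 => hc (sub_eq_zero.mp h0).symm
  rw [eq_one_of_ne h8, one_smul] at h7
  exact h.ne h7

theorem fix_iff (h : Tv d a φ) (v : V) : d • v = v ↔ φ v = 0 := by
  rw [h.act v]
  constructor
  · intro h1
    by_contra hc
    rw [eq_one_of_ne hc, one_smul] at h1
    exact h.ne (left_eq_add.mp h1.symm)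
  · intro h1
    rw [h1, zero_smul, add_zero]

theorem mul_self (hf : Faith P V) (h : Tv d a φ) : d * d = 1 := by
  refine hf _ fun v => ?_
  rw [mul_smul, h.act v, smul_add, h.act v, smul_zmod, h.act a, h.self, zero_smul, add_zero,
    add_add_self]

theorem inv_eq (hf : Faith P V) (h : Tv d a φ) : d⁻¹ = d :=
  inv_eq_of_mul_eq_one_left (h.mul_self hf)

theorem ne_one (h : Tv d a φ) : d ≠ 1 := by
  intro h1
  obtain ⟨v, hv⟩ := exists_one h.nz
  have h2 := h.act v
  rw [h1, one_smul, hv, one_smul] at h2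
  exact h.ne (left_eq_add.mp h2)

theorem ext (hf : Faith P V) (h : Tv d a φ) (h' : Tv e a φ) : d = e :=
  hf.ext fun v => by rw [h.act, h'.act]

theorem conj (h : Tv d a φ) (g : P) : Tv (g * d * g⁻¹) (g • a) (dua g φ) where
  ne := by
    intro h0
    apply h.ne
    have h1 : g⁻¹ • (g • a) = g⁻¹ • (0 : V) := by rw [h0]
    rwa [inv_smul_smul, smul_zero] at h1
  nz := by
    obtain ⟨v, hv⟩ := exists_one h.nz
    intro h0
    have h1 : dua g φ (g • v) = 0 := by rw [h0]; rfl
    rw [dua_apply, inv_smul_smul, hv] at h1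
    exact one_ne h1
  act v := by
    rw [mul_smul, mul_smul, h.act, smul_add, smul_inv_smul, smul_zmod, dua_apply]

/-- two transvections with the same axis -/
theorem mul_axis (h : Tv d a φ) (h' : Tv e b φ) (hab : a ≠ b) : Tv (d * e) (a + b) φ where
  ne := fun h0 => hab (eq_of_add h0)
  nz := h.nz
  act v := by
    rw [mul_smul, h'.act, h.act, map_add, map_smul, h'.self, smul_zero, add_zero, smul_add]
    abel

/-- two transvections with the same centre -/
theorem mul_centre (h : Tv d a φ) (h' : Tv e a ψ) (hab : φ ≠ ψ) : Tv (d * e) a (φ + ψ) where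
  ne := h.ne
  nz := by
    intro h0
    apply hab
    ext v
    have h1 : (φ + ψ) v = 0 := by rw [h0]; rfl
    rw [LinearMap.add_apply] at h1
    exact eq_of_add h1
  act v := by
    rw [mul_smul, h'.act, h.act, map_add, map_smul, h.self, smul_zero, add_zero,
      LinearMap.add_apply, add_smul]
    abel

/-- conjugating a transvection by a transvection -/
theorem conj_tv (hf : Faith P V) (h : Tv d a φ) (h' : Tv e b ψ) :
    Tv (d * e * d) (b + φ b • a) (ψ + ψ a • φ) := by
  have h1 := h'.conj d
  have h2 : d⁻¹ = d := h.inv_eq hf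
  rw [h.act b] at h1
  have h3 : dua d ψ = ψ + ψ a • φ := by
    ext v
    rw [dua_apply, h2, h.act, map_add, map_smul, LinearMap.add_apply, LinearMap.smul_apply,
      smul_eq_mul, smul_eq_mul, mul_comm]
  rw [h3, h2] at h1
  exact h1

end Tv

end Cfsg.Agent.Omega.Transv
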