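import Cfsg.Agent.Omega.Transv.Frame

/-!
# Minimal parabolics with transvections: all transvections

`Fr`: the transvections `D i` of the Sylow subgroup `T`, and dual transvections `E i`.
-/

set_option autoImplicit false

namespace Cfsg.Agent.Omega.Transv

open Subgroup

variable {P : Type*} [Group P] {V : Type*} [AddCommGroup V] [Module (ZMod 2) V] [DistribMulAction P V]

/-- a frame -/
structure Fr (P V : Type*) [Group P] [AddCommGroup V] [Module (ZMod 2) V] [DistribMulAction P V]
    (T : Sylow 2 P) (M : Subgroup P) (v0 : V) (ψ0 : Du V) (ι : Type*) [DecidableEq ι] (D E : ι → P) (a b : ι → V)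
    (φ ε : ι → Du V) : Prop extends Pt P V T M v0 ψ0 where
  hD : ∀ i, Tv (D i) (a i) (φ i)
  DT : ∀ i, D i ∈ T
  surj : ∀ d ∈ DD P V, d ∈ T → ∃ i, D i = d
  inj : Function.Injective D
  hE : ∀ i, Tv (E i) (b i) (ε i)
  EM : ∀ i, E i ∉ M
  dual : ∀ i j, ε i (a j) = if j = i then 1 else 0
  trans : ∀ i j, ∃ t ∈ T, D j = t * D i * t⁻¹

theorem Pt.exists_fr [Finite P] {T : Sylow 2 P} {M : Subgroup P} {v0 : V} {ψ0 : Du V} (h : Pt P V T M v0 ψ0)
    [DecidableEq (DS V T 1)] :
    ∃ (D E : (DS V T 1) → P) (a b : (DS V T 1) → V) (φ ε : (DS V T 1) → Du V),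
      Fr P V T M v0 ψ0 (DS V T 1) D E a b φ ε := by
  choose E h1 h2 h3 using fun i : DS V T 1 => h.exists_frame i.2
  refine ⟨fun i => i, E, fun i => ctr V (i : P), fun i => ctr V (E i), fun i => fn V (i : P), fun i => fn V (E i), ?_⟩
  refine { h with
    hD := fun i => tv_of_mem i.2.1
    DT := fun i => (mem_DS_one.mp i.2).2
    surj := fun d hd hT => ⟨⟨d, mem_DS_one.mpr ⟨hd, hT⟩⟩, rfl⟩
    inj := Subtype.val_injective
    hE := fun i => tv_of_mem (h1 i)
    EM := h2
    dual := fun i j => ?_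
    trans := fun i j => h.exists_conj' i.2 j.2 }
  have h4 := h3 i j j.2
  by_cases hij : j = i
  · rw [if_pos hij]
    exact h4.mpr (congrArg Subtype.val hij)
  · rw [if_neg hij]
    exact eq_zero_of_ne fun h5 => hij (Subtype.ext (h4.mp h5))

namespace Fr

variable {T : Sylow 2 P} {M : Subgroup P} {v0 : V} {ψ0 : Du V} {ι : Type*} [DecidableEq ι] {D E : ι → P}
  {a b : ι → V} {φ ε : ι → Du V}

theorem DM (h : Fr P V T M v0 ψ0 ι D E a b φ ε) (i : ι) : D i ∈ M := h.le (h.DT i)

theorem orth [Finite P] (h : Fr P V T M v0 ψ0 ι D E a b φ ε) (i j : ι) : φ i (a j) = 0 :=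
  h.zero_of_comm (h.hD i) (h.hD j) (h.comm_of_pgroup T.isPGroup' (h.hD i).mem (h.hD j).mem (h.DT i) (h.DT j))

theorem dual' [Finite P] (h : Fr P V T M v0 ψ0 ι D E a b φ ε) (i j : ι) : φ j (b i) = if j = i then 1 else 0 := by
  rw [h.symm (h.hD j) (h.hE i), h.dual]

theorem a_inj [Finite P] (h : Fr P V T M v0 ψ0 ι D E a b φ ε) {i j : ι} (hij : a i = a j) : i = j := by
  have h1 := h.hD i
  rw [hij] at h1
  exact h.inj (h.eq_of_ctr h1 (h.hD j))

theorem mem_of_orth [Finite P] (h : Fr P V T M v0 ψ0 ι D E a b φ ε) {c : P} {x : V} {χ : Du V} (hc : Tv c x χ)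
    (h0 : ∀ i, χ (a i) = 0) : ∃ i, D i = c := by
  have h1 : ∀ d ∈ DS V T 1, c * d = d * c := by
    intro d hd
    rw [mem_DS_one] at hd
    obtain ⟨i, rfl⟩ := h.surj d hd.1 hd.2
    exact h.comm_of_zero hc (h.hD i) (h0 i)
  have h2 : Com V (insert c (DS V T 1)) := by
    refine ⟨?_, ?_⟩
    · rintro x (rfl | hx)
      · exact hc.mem
      · exact hx.1
    · rintro x (rfl | hx) y (rfl | hy)
      · rfl
      · exact h1 y hy
      · exact (h1 x hx).symm
      · exact (h.com_DS 1).2 x hx y hy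
  have h3 := h2.eq_DS h.faith (g := 1) (Set.subset_insert _ _)
  have h4 : c ∈ DS V T 1 := by
    rw [← h3]
    exact Set.mem_insert _ _
  rw [mem_DS_one] at h4
  exact h.surj c h4.1 h4.2

theorem dual_sum [Finite P] (h : Fr P V T M v0 ψ0 ι D E a b φ ε) (i : ι) (S : Finset ι) :
    ε i (∑ j ∈ S, a j) = if i ∈ S then 1 else 0 := by
  rw [map_sum]
  simp only [h.dual]
  rw [Finset.sum_ite_eq']

theorem orth_sum [Finite P] (h : Fr P V T M v0 ψ0 ι D E a b φ ε) (i : ι) (S : Finset ι) :
    φ i (∑ j ∈ S, a j) = 0 := by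
  rw [map_sum]
  exact Finset.sum_eq_zero fun j _ => h.orth i j

/-- the fixed vector is the sum of all the centres in `T` -/
theorem v0_eq [Finite P] [Fintype ι] [Nonempty ι] (h : Fr P V T M v0 ψ0 ι D E a b φ ε) : v0 = ∑ i, a i := by
  have h1 : ∀ t ∈ T, t • (∑ i, a i) = ∑ i, a i := by
    intro t ht
    have h2 : ∀ i, ∃ j, t • a i = a j := by
      intro i
      have h3 := (h.hD i).conj t
      obtain ⟨j, hj⟩ := h.surj _ h3.mem (mul_mem (mul_mem ht (h.DT i)) ((T : Subgroup P).inv_mem ht))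
      refine ⟨j, ?_⟩
      rw [← hj] at h3
      exact (h3.unique (h.hD j)).1
    choose f hf using h2
    have hinj : Function.Injective f := by
      intro i j hij
      have h4 : t • a i = t • a j := by rw [hf, hf, hij]
      exact h.a_inj (smul_left_cancel t h4)
    rw [Finset.smul_sum]
    simp only [hf]
    exact Function.Bijective.sum_comp (Finite.injective_iff_bijective.mp hinj) a
  rcases h.v_uniq _ h1 with h2 | h2
  · exfalso
    obtain ⟨i⟩ := ‹Nonempty ι›
    have h3 := h.dual_sum i Finset.univ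
    rw [h2, map_zero, if_pos (Finset.mem_univ i)] at h3
    exact one_ne h3.symm
  · exact h2.symm

/-- a product of transvections of `T` -/
theorem exists_prod [Finite P] (h : Fr P V T M v0 ψ0 ι D E a b φ ε) (S : Finset ι) :
    ∃ w : P, ∀ v : V, w • v = v + ∑ i ∈ S, φ i v • a i := by
  induction S using Finset.induction_on with
  | empty => exact ⟨1, fun v => by rw [one_smul, Finset.sum_empty, add_zero]⟩
  | insert i S hi ih =>
    obtain ⟨w, hw⟩ := ih
    refine ⟨D i * w, fun v => ?_⟩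
    rw [mul_smul, hw, (h.hD i).act, map_add, Finset.sum_insert hi]
    have h1 : φ i (∑ j ∈ S, φ j v • a j) = 0 := by
      rw [map_sum]
      refine Finset.sum_eq_zero fun j _ => ?_
      rw [map_smul, h.orth, smul_zero]
    rw [h1, add_zero]
    abel

/-- a transvection outside `M` moves exactly one of the centres in `T` -/
theorem exists_single [Finite P] [Fintype ι] [Nonempty ι] (h : Fr P V T M v0 ψ0 ι D E a b φ ε) {c : P} {x : V}
    {χ : Du V} (hc : Tv c x χ) (hM : c ∉ M) : ∃ l, ∀ i, χ (a i) = if i = l then 1 else 0 := by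
  classical
  set S : Finset ι := Finset.univ.filter fun i => χ (a i) = 1 with hS
  have hmem : ∀ i, i ∈ S ↔ χ (a i) = 1 := by
    intro i
    rw [hS, Finset.mem_filter]
    exact ⟨fun h => h.2, fun h => ⟨Finset.mem_univ i, h⟩⟩
  have hsum : ∑ i ∈ S, χ (a i) = 1 := by
    have h1 := (h.notMem_iff hc).mp hM
    rw [h.v0_eq, map_sum] at h1
    rw [← h1]
    refine Finset.sum_subset (Finset.subset_univ S) fun i _ hi => ?_
    exact eq_zero_of_ne fun h2 => hi ((hmem i).mpr h2)
  obtain ⟨w, hw⟩ := h.exists_prod S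
  have hwx : w • x = x + ∑ i ∈ S, a i := by
    rw [hw]
    congr 1
    refine Finset.sum_congr rfl fun i hi => ?_
    rw [h.symm (h.hD i) hc, (hmem i).mp hi, one_smul]
  have h1 : χ (w • x) = 1 := by rw [hwx, map_add, hc.self, zero_add, map_sum, hsum]
  have h2 := h.third hc (hc.conj w) h1
  have h3 : x + w • x = ∑ i ∈ S, a i := by rw [hwx, ← add_assoc, add_self, zero_add]
  rw [h3] at h2
  obtain ⟨l, hl⟩ := h.mem_of_orth h2 fun i => by
    rw [h.symm h2 (h.hD i), h.orth_sum]
  rw [← hl] at h2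
  have h4 := ((h.hD l).unique h2).1
  refine ⟨l, fun i => ?_⟩
  have h5 := h.dual_sum i S
  rw [← h4, h.dual] at h5
  by_cases hi : i ∈ S
  · rw [if_pos hi] at h5
    rw [(hmem i).mp hi]
    by_cases hil : i = l
    · rw [if_pos hil]
    · rw [if_neg (fun h0 => hil h0.symm)] at h5
      exact absurd h5 zero_ne_one'
  · rw [if_neg hi] at h5
    have h6 : χ (a i) = 0 := eq_zero_of_ne fun h0 => hi ((hmem i).mpr h0)
    rw [h6]
    by_cases hil : i = l
    · rw [if_pos hil.symm] at h5
      exact absurd h5 one_ne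
    · rw [if_neg hil]

/-- a dual transvection and its conjugate -/
theorem hE' [Finite P] (h : Fr P V T M v0 ψ0 ι D E a b φ ε) (i : ι) :
    Tv (D i * E i * D i) (a i + b i) (φ i + ε i) :=
  h.third (h.hD i) (h.hE i) (by rw [h.dual', if_pos rfl])

theorem EM' [Finite P] (h : Fr P V T M v0 ψ0 ι D E a b φ ε) (i : ι) : D i * E i * D i ∉ M := by
  intro h1
  have h2 := M.mul_mem (M.mul_mem (h.DM i) h1) (h.DM i)
  have h3 : D i * (D i * E i * D i) * D i = E i := by
    calc D i * (D i * E i * D i) * D i = (D i * D i) * E i * (D i * D i) := by group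
      _ = E i := by rw [(h.hD i).mul_self h.faith]; group
  rw [h3] at h2
  exact h.EM i h2

/-- the transvections outside `M` -/
theorem typeE [Finite P] [Fintype ι] [Nonempty ι] (h : Fr P V T M v0 ψ0 ι D E a b φ ε) {c : P} {x : V}
    {χ : Du V} (hc : Tv c x χ) (hM : c ∉ M) : ∃ l, ∃ s : ZMod 2, x = b l + s • a l := by
  obtain ⟨l, hl⟩ := h.exists_single hc hM
  -- two transvections outside `M` with the same index
  have key : ∀ {d : P} {y : V} {η : Du V}, Tv d y η → (∀ i, η (a i) = if i = l then 1 else 0) → χ y = 1 →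
      x = y + a l := by
    intro d y η hd hη h1
    have h2 := h.third hc hd h1
    obtain ⟨i, hi⟩ := h.mem_of_orth h2 fun i => by
      rw [LinearMap.add_apply, hl, hη, add_self]
    rw [← hi] at h2
    have h3 := ((h.hD i).unique h2).1
    have h4 : χ (a i) = 1 := by rw [h3, map_add, hc.self, h1, zero_add]
    have h5 : i = l := by
      by_contra hne
      rw [hl, if_neg hne] at h4
      exact zero_ne_one' h4
    subst h5
    rw [h3, add_comm x y, ← add_assoc, add_self, zero_add]
  refine ⟨l, ?_⟩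
  rcases zmod_cases (χ (b l)) with h0 | h1
  · -- then `x = b l`
    refine ⟨0, ?_⟩
    have h1 : χ (a l + b l) = 1 := by rw [map_add, h0, add_zero, hl, if_pos rfl]
    have h2 := key (h.hE' l) (fun i => by rw [LinearMap.add_apply, h.orth, h.dual, zero_add]) h1
    rw [h2, zero_smul, add_zero, add_comm (a l) (b l), add_add_self]
  · refine ⟨1, ?_⟩
    rw [one_smul]
    exact key (h.hE l) (fun i => h.dual l i) h1

/-- the transvections in `M` outside `T` -/
theorem typeF [Finite P] [Fintype ι] [Nonempty ι] (h : Fr P V T M v0 ψ0 ι D E a b φ ε) {c : P} {x : V}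
    {χ : Du V} (hc : Tv c x χ) (hM : c ∈ M) (hT : ∀ i, D i ≠ c) :
    ∃ i j, i ≠ j ∧ ε i (b j) = 1 ∧ ∃ s t : ZMod 2, x = b i + s • a i + (b j + t • a j) := by
  have h0 : ∃ i, χ (a i) = 1 := by
    by_contra hcon
    push Not at hcon
    obtain ⟨i, hi⟩ := h.mem_of_orth hc fun i => eq_zero_of_ne (hcon i)
    exact hT i hi
  obtain ⟨i, hi⟩ := h0
  have hv0 : χ v0 = 0 := (h.mem_iff hc).mp hM
  -- the key step
  have key : ∀ {d : P} {y : V} {η : Du V}, Tv d y η → d ∉ M → (∀ k, η (a k) = if k = i then 1 else 0) →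
      χ y = 1 → ∃ l, ∃ s : ZMod 2, i ≠ l ∧ x = y + (b l + s • a l) ∧ ∀ k, χ (a k) =
        (if k = i then 1 else 0) + (if k = l then 1 else 0) := by
    intro d y η hd hdM hη h1
    have h2 := h.third hc hd h1
    have h3 : c * d * c ∉ M := by
      rw [h.notMem_iff h2, LinearMap.add_apply, hv0, (h.notMem_iff hd).mp hdM, zero_add]
    obtain ⟨l, s, hls⟩ := h.typeE h2 h3
    obtain ⟨l', hl'⟩ := h.exists_single h2 h3
    have hll : l = l' := by
      have h4 := hl' l
      rw [h.symm h2 (h.hD l), hls, map_add, map_smul, h.orth, smul_zero, add_zero, h.dual', if_pos rfl] at h4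
      by_contra hne
      rw [if_neg hne] at h4
      exact one_ne h4
    subst hll
    have h5 : ∀ k, χ (a k) = (if k = i then 1 else 0) + (if k = l then 1 else 0) := by
      intro k
      rw [← hη k, ← hl' k, LinearMap.add_apply, add_comm (χ (a k)), ← add_assoc, add_self, zero_add]
    refine ⟨l, s, ?_, ?_, h5⟩
    · rintro rfl
      have h6 := h5 i
      rw [hi, if_pos rfl, one_add_one] at h6
      exact one_ne h6
    · rw [← hls, ← add_assoc, add_comm y x, add_assoc, add_self, add_zero]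
  -- the value of `ε`
  have fin : ∀ (s : ZMod 2), χ (b i + s • a i) = 1 → (∃ l, ∃ t : ZMod 2, i ≠ l ∧
      x = b i + s • a i + (b l + t • a l) ∧ ∀ k, χ (a k) = (if k = i then 1 else 0) + (if k = l then 1 else 0)) →
      ∃ i j, i ≠ j ∧ ε i (b j) = 1 ∧ ∃ s t : ZMod 2, x = b i + s • a i + (b j + t • a j) := by
    rintro s h1 ⟨l, t, hil, hx, hk⟩
    refine ⟨i, l, hil, ?_, s, t, hx⟩
    have h2 : φ i x = 1 := by rw [← h.symm hc (h.hD i), hi]
    have h3 : χ (b i) = ε i x := h.symm hc (h.hE i)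
    rw [hx, map_add, map_add, map_add, (h.hE i).self, zero_add, map_smul, map_smul, h.dual, h.dual, if_pos rfl,
      if_neg (fun h0 => hil h0.symm), smul_zero, add_zero] at h3
    rw [map_add, map_smul, hi, h3] at h1
    have h4 : s • (1 : ZMod 2) + ε i (b l) + s • (1 : ZMod 2) = ε i (b l) := by
      rw [add_comm (s • (1 : ZMod 2)), add_add_self]
    rwa [h4] at h1
  rcases zmod_cases (χ (b i)) with h1 | h1
  · have h2 : χ (b i + (1 : ZMod 2) • a i) = 1 := by rw [map_add, h1, map_smul, hi, zero_add, smul_eq_mul, one_mul]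
    refine fin 1 h2 ?_
    have h3 := h.hE' i
    rw [add_comm (a i) (b i), ← one_smul (ZMod 2) (a i)] at h3
    obtain ⟨l, t, h4, h5, h6⟩ := key h3 (h.EM' i) (fun k => by
      rw [LinearMap.add_apply, h.orth, h.dual, zero_add]) h2
    exact ⟨l, t, h4, h5, h6⟩
  · have h2 : χ (b i + (0 : ZMod 2) • a i) = 1 := by rw [zero_smul, add_zero, h1]
    refine fin 0 h2 ?_
    have h3 := h.hE i
    have h4 : b i = b i + (0 : ZMod 2) • a i := by rw [zero_smul, add_zero]
    rw [h4] at h3
    obtain ⟨l, t, h4, h5, h6⟩ := key h3 (h.EM i) (fun k => h.dual i k) h2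
    exact ⟨l, t, h4, h5, h6⟩

/-- the relation -/
theorem gsymm [Finite P] (h : Fr P V T M v0 ψ0 ι D E a b φ ε) (i j : ι) : ε i (b j) = ε j (b i) :=
  h.symm (h.hE i) (h.hE j)

theorem gtrans [Finite P] [Fintype ι] [Nonempty ι] (h : Fr P V T M v0 ψ0 ι D E a b φ ε) {i j k : ι} (hij : i ≠ j)
    (hjk : j ≠ k) (hik : i ≠ k) (h1 : ε i (b j) = 1) (h2 : ε j (b k) = 1) : ε i (b k) = 1 := by
  by_contra h3
  have h3' := eq_zero_of_ne h3
  have h4 := h.third (h.hE i) (h.hE j) h1
  have h5 : (ε i + ε j) (b k) = 1 := by rw [LinearMap.add_apply, h3', h2, zero_add]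
  have h6 := h.third h4 (h.hE k) h5
  have h7 : (E i * E j * E i) * E k * (E i * E j * E i) ∉ M := by
    rw [h.notMem_iff h6, LinearMap.add_apply, LinearMap.add_apply, (h.notMem_iff (h.hE i)).mp (h.EM i),
      (h.notMem_iff (h.hE j)).mp (h.EM j), (h.notMem_iff (h.hE k)).mp (h.EM k), one_add_one, zero_add]
  obtain ⟨l, hl⟩ := h.exists_single h6 h7
  have hi := hl i
  have hj := hl j
  rw [LinearMap.add_apply, LinearMap.add_apply, h.dual, h.dual, h.dual, if_pos rfl, if_neg hij, if_neg hik,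
    add_zero, add_zero] at hi
  rw [LinearMap.add_apply, LinearMap.add_apply, h.dual, h.dual, h.dual, if_pos rfl, if_neg hij.symm, if_neg hjk,
    zero_add, add_zero] at hj
  have hil : i = l := by
    by_contra hne
    rw [if_neg hne] at hi
    exact one_ne hi
  have hjl : j = l := by
    by_contra hne
    rw [if_neg hne] at hj
    exact one_ne hj
  exact hij (hil.trans hjl.symm)

end Fr

end Cfsg.Agent.Omega.Transv
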