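import Cfsg.Agent.Omega.Transv.Max

/-!
# Minimal parabolics with transvections: the dual frame

The transvections `d` in the Sylow subgroup `T` are all conjugate in `T`, and each of them has a transvection
`e ∉ M` which commutes with all the others and not with `d`.
-/

set_option autoImplicit false

namespace Cfsg.Agent.Omega.Transv

open Subgroup

variable {P : Type*} [Group P] {V : Type*} [AddCommGroup V] [Module (ZMod 2) V] [DistribMulAction P V]

theorem zero_ne_one' : ¬ (0 : ZMod 2) = 1 := by decide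

theorem conj_comm {x y c : P} (hx : x * c = c * x) (hy : y * c = c * y) : (x * y)⁻¹ * c * (x * y) = c := by
  calc (x * y)⁻¹ * c * (x * y) = y⁻¹ * x⁻¹ * (c * x) * y := by group
    _ = y⁻¹ * (c * y) := by rw [← hx]; group
    _ = c := by rw [← hy]; group

namespace Pt

variable {T : Sylow 2 P} {M : Subgroup P} {v0 : V} {ψ0 : Du V}

/-- one dual pair -/
theorem exists_dual [Finite P] (h : Pt P V T M v0 ψ0) :
    ∃ d ∈ DS V T 1, ∃ e ∈ DD P V, e ∉ M ∧ ∀ c ∈ DS V T 1, (fn V e (ctr V c) = 1 ↔ c = d) := by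
  obtain ⟨d0, hd0⟩ := h.tv
  obtain ⟨g0, hg0⟩ := h.toHyp.exists_conj_notMem hd0
  obtain ⟨ρ, ⟨hρ, e, he, heM, hρe⟩, hmax⟩ := Set.exists_max_image
    {σ : Set P | σ ⊆ DS V T 1 ∧ ∃ e ∈ DD P V, e ∉ M ∧ ∀ d ∈ σ, d * e = e * d} Set.ncard (Set.toFinite _)
    ⟨∅, Set.empty_subset _, _, mem_DD_conj hd0 g0, hg0, fun d hd => absurd hd (Set.notMem_empty d)⟩
  have hte := tv_of_mem he
  have hee := hte.mul_self h.faith
  -- an element outside `ρ`
  have hex : ∃ d ∈ DS V T 1, d ∉ ρ := by
    by_contra hc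
    push Not at hc
    have h1 : Com V (insert e (DS V T 1)) := by
      refine ⟨?_, ?_⟩
      · rintro x (rfl | hx)
        · exact he
        · exact hx.1
      · rintro x (rfl | hx) y (rfl | hy)
        · rfl
        · exact (hρe y (hc y hy)).symm
        · exact hρe x (hc x hx)
        · exact (h.com_DS 1).2 x hx y hy
    have h2 := h1.eq_DS h.faith (g := 1) (Set.subset_insert _ _)
    have h3 : e ∈ DS V T 1 := by
      rw [← h2]
      exact Set.mem_insert _ _
    exact heM (h.le (mem_DS_one.mp h3).2)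
  have hins : ∀ d ∈ DS V T 1, d ∉ ρ → insert d ρ ⊆ DS V T 1 ∧ ρ.ncard < (insert d ρ).ncard := by
    intro d hd hdρ
    refine ⟨Set.insert_subset hd hρ, ?_⟩
    rw [Set.ncard_insert_of_notMem hdρ (Set.toFinite _)]
    exact Nat.lt_succ_self _
  have hone : ∀ d ∈ DS V T 1, d ∉ ρ → fn V d (ctr V e) = 1 := by
    intro d hd hdρ
    refine eq_one_of_ne fun h0 => ?_
    have h1 := h.comm_of_zero (tv_of_mem hd.1) hte h0
    obtain ⟨h2, h3⟩ := hins d hd hdρ
    refine absurd (hmax (insert d ρ) ⟨h2, e, he, heM, ?_⟩) (not_le.mpr h3)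
    rintro x (rfl | hx)
    · exact h1
    · exact hρe x hx
  have huniq : ∀ d ∈ DS V T 1, d ∉ ρ → ∀ d' ∈ DS V T 1, d' ∉ ρ → d = d' := by
    intro d hd hdρ d' hd' hdρ'
    have htd := tv_of_mem hd.1
    have htd' := tv_of_mem hd'.1
    have h1 := hone d hd hdρ
    have h1' := hone d' hd' hdρ'
    have hx := h.third htd hte h1
    have hx' := h.third htd' hte h1'
    have hb := h.braid htd hte h1
    have hb' := h.braid htd' hte h1'
    have hdd := htd.mul_self h.faith
    have hdd' := htd'.mul_self h.faith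
    have hxx := hx.mul_self h.faith
    have hxx' := hx'.mul_self h.faith
    obtain ⟨h2, h3⟩ := hins d hd hdρ
    -- conjugation
    have hc1 : (d * e * d) * d * (d * e * d) = e := by
      calc (d * e * d) * d * (d * e * d) = d * e * (d * d) * (d * e * d) := by group
        _ = d * (e * d * e) * d := by rw [hdd]; group
        _ = d * d * e * (d * d) := by rw [← hb]; group
        _ = e := by rw [hdd]; group
    have hc2 : (d' * e * d') * e * (d' * e * d') = d' := by
      calc (d' * e * d') * e * (d' * e * d') = (e * d' * e) * e * (e * d' * e) := by rw [hb']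
        _ = e * d' * (e * e) * e * d' * e := by group
        _ = e * (d' * e * d') * e := by rw [hee]; group
        _ = e * e * d' * (e * e) := by rw [hb']; group
        _ = d' := by rw [hee]; group
    have hcρ : ∀ c ∈ ρ, ∀ f ∈ DS V T 1, (f * e * f) * c = c * (f * e * f) := by
      intro c hc f hf
      have h4 := (h.com_DS 1).2 f hf c (hρ hc)
      have h5 := hρe c hc
      calc (f * e * f) * c = f * e * (f * c) := by group
        _ = f * (e * c) * f := by rw [h4]; group
        _ = (f * c) * e * f := by rw [← h5]; group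
        _ = c * (f * e * f) := by rw [h4]; group
    have hsub : insert d ρ ⊆ DS V T ((d * e * d) * (d' * e * d')) := by
      rintro c (rfl | hc)
      · refine ⟨hd.1, ?_⟩
        have h4 : ((c * e * c) * (d' * e * d'))⁻¹ * c * ((c * e * c) * (d' * e * d')) = d' := by
          rw [mul_inv_rev, hx.inv_eq h.faith, hx'.inv_eq h.faith]
          calc (d' * e * d') * (c * e * c) * c * ((c * e * c) * (d' * e * d'))
              = (d' * e * d') * ((c * e * c) * c * (c * e * c)) * (d' * e * d') := by group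
            _ = d' := by rw [hc1, hc2]
        rw [h4]
        exact (mem_DS_one.mp hd').2
      · refine ⟨(hρ hc).1, ?_⟩
        rw [conj_comm (hcρ c hc d hd) (hcρ c hc d' hd')]
        exact (mem_DS_one.mp (hρ hc)).2
    have h7 := h.unique_smul h2 (fun f hf hcf => by
      by_contra hfM
      exact absurd (hmax (insert d ρ) ⟨h2, f, hf, hfM, hcf⟩) (not_le.mpr h3)) hsub
    have h8 : (d' * e * d') • v0 = (d * e * d) • v0 := by
      rw [mul_smul, ← hx.inv_eq h.faith, inv_smul_eq_iff] at h7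
      exact h7
    have hz : fn V d v0 = 0 := (h.mem_iff htd).mp (h.le (mem_DS_one.mp hd).2)
    have hz' : fn V d' v0 = 0 := (h.mem_iff htd').mp (h.le (mem_DS_one.mp hd').2)
    have hze : fn V e v0 = 1 := (h.notMem_iff hte).mp heM
    rw [hx.act, hx'.act, LinearMap.add_apply, LinearMap.add_apply, hz, hz', hze, zero_add, one_smul, one_smul] at h8
    have h9 : ctr V d = ctr V d' := (add_right_cancel (add_left_cancel h8)).symm
    rw [h9] at htd
    exact h.eq_of_ctr htd htd'
  obtain ⟨d, hd, hdρ⟩ := hex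
  refine ⟨d, hd, e, he, heM, fun c hc => ⟨fun h1 => ?_, ?_⟩⟩
  · by_cases hcρ : c ∈ ρ
    · have h2 := h.zero_of_comm hte (tv_of_mem hc.1) (hρe c hcρ).symm
      rw [h2] at h1
      exact absurd h1 zero_ne_one'
    · exact huniq c hc hcρ d hd hdρ
  · rintro rfl
    rw [← h.symm (tv_of_mem hd.1) hte]
    exact hone c hd hdρ

theorem smul_DS {t : P} (ht : t ∈ T) {d : P} (hd : d ∈ DS V T 1) : t * d * t⁻¹ ∈ DS V T 1 := by
  rw [mem_DS_one] at hd ⊢
  exact ⟨mem_DD_conj hd.1 t, mul_mem (mul_mem ht hd.2) ((T : Subgroup P).inv_mem ht)⟩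

/-- the transvections in `T` are conjugate in `T` -/
theorem exists_conj [Finite P] (h : Pt P V T M v0 ψ0) {d e : P} (he : e ∈ DD P V)
    (heM : e ∉ M) (hde : ∀ c ∈ DS V T 1, (fn V e (ctr V c) = 1 ↔ c = d)) {c : P} (hc : c ∈ DS V T 1) :
    ∃ t ∈ T, c = t * d * t⁻¹ := by
  by_contra hcon
  push Not at hcon
  have hte := tv_of_mem he
  set K : Subgroup P := closure {x | ∃ t ∈ T, x = t * c * t⁻¹} with hK
  have hcomm : ∀ x, (∃ t ∈ T, x = t * c * t⁻¹) → x * e = e * x := by
    rintro x ⟨t, ht, rfl⟩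
    have h1 := smul_DS ht hc
    refine (h.comm_of_zero hte (tv_of_mem h1.1) ?_).symm
    refine eq_zero_of_ne fun h2 => ?_
    have h3 := (hde _ h1).mp h2
    refine hcon t⁻¹ ((T : Subgroup P).inv_mem ht) ?_
    rw [← h3]
    group
  have heK : e ∈ normalizer (K : Set P) := by
    have h1 : K ≤ centralizer {e} := by
      rw [hK, closure_le]
      intro x hx
      rw [SetLike.mem_coe, mem_centralizer_singleton_iff]
      exact hcomm x hx
    have h2 : ∀ x ∈ K, x * e = e * x := fun x hx => mem_centralizer_singleton_iff.mp (h1 hx)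
    rw [mem_normalizer_iff]
    intro x
    constructor
    · intro hx
      rw [← h2 x hx, mul_inv_cancel_right]
      exact hx
    · intro hx
      have h3 := h2 _ hx
      have h4 : e * x * e⁻¹ = x := by
        have h5 : e * x = e * (e * x * e⁻¹) := by
          rw [← h3]
          group
        exact (mul_left_cancel h5).symm
      rwa [h4] at hx
  have hTK : (T : Subgroup P) ≤ normalizer (K : Set P) := by
    have h1 : ∀ t ∈ T, ∀ x ∈ K, t * x * t⁻¹ ∈ K := by
      intro t ht x hx
      have h3 : K ≤ K.comap (MulAut.conj t).toMonoidHom := by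
        rw [hK, closure_le]
        rintro y ⟨s, hs, rfl⟩
        refine subset_closure ⟨t * s, mul_mem ht hs, ?_⟩
        change t * (s * c * s⁻¹) * t⁻¹ = _
        group
      exact h3 hx
    intro t ht
    rw [mem_normalizer_iff]
    intro x
    refine ⟨h1 t ht x, fun hx => ?_⟩
    have h5 := h1 t⁻¹ ((T : Subgroup P).inv_mem ht) _ hx
    have h6 : t⁻¹ * (t * x * t⁻¹) * t⁻¹⁻¹ = x := by group
    rwa [h6] at h5
  rcases h.max _ hTK with h1 | h1
  · exact heM (h1 heK)
  · have h2 : K.Normal := normalizer_eq_top_iff.mp h1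
    have h3 : K ≤ closure (DS V T 1) := by
      rw [hK, closure_le]
      rintro x ⟨t, ht, rfl⟩
      exact subset_closure (smul_DS ht hc)
    have h4 := h.core _ h2 (((h.com_DS 1).isPGroup h.faith).to_le h3)
    have h5 : c ∈ K := subset_closure ⟨1, (T : Subgroup P).one_mem, by group⟩
    rw [h4, mem_bot] at h5
    exact (tv_of_mem hc.1).ne_one h5

/-- the dual frame -/
theorem exists_frame [Finite P] (h : Pt P V T M v0 ψ0) {i : P} (hi : i ∈ DS V T 1) :
    ∃ e ∈ DD P V, e ∉ M ∧ ∀ c ∈ DS V T 1, (fn V e (ctr V c) = 1 ↔ c = i) := by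
  obtain ⟨d, -, e, he, heM, hde⟩ := h.exists_dual
  obtain ⟨t, ht, rfl⟩ := h.exists_conj he heM hde hi
  refine ⟨t * e * t⁻¹, mem_DD_conj he t, fun h1 => heM ?_, fun c hc => ?_⟩
  · have h2 := M.mul_mem (M.mul_mem (M.inv_mem (h.le ht)) h1) (h.le ht)
    have h3 : t⁻¹ * (t * e * t⁻¹) * t = e := by group
    rwa [h3] at h2
  · have h1 := smul_DS ((T : Subgroup P).inv_mem ht) hc
    rw [inv_inv] at h1
    have h2 := fn_conj_apply he t (ctr V (t⁻¹ * c * t))
    have h3 := ctr_conj h1.1 t
    have h4 : t * (t⁻¹ * c * t) * t⁻¹ = c := by group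
    rw [h4] at h3
    rw [h3, h2, hde _ h1]
    constructor
    · intro h5
      rw [← h5]
      group
    · intro h5
      rw [h5]
      group

/-- transitivity -/
theorem exists_conj' [Finite P] (h : Pt P V T M v0 ψ0) {i j : P} (hi : i ∈ DS V T 1) (hj : j ∈ DS V T 1) :
    ∃ t ∈ T, j = t * i * t⁻¹ := by
  obtain ⟨d, -, e, he, heM, hde⟩ := h.exists_dual
  obtain ⟨t, ht, rfl⟩ := h.exists_conj he heM hde hi
  obtain ⟨s, hs, rfl⟩ := h.exists_conj he heM hde hj
  refine ⟨s * t⁻¹, mul_mem hs ((T : Subgroup P).inv_mem ht), ?_⟩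
  group

/-- all transvections are conjugate -/
theorem all_conj [Finite P] (h : Pt P V T M v0 ψ0) : ∀ d ∈ DD P V, ∀ e ∈ DD P V, ∃ g, e = g * d * g⁻¹ := by
  have key : ∀ d ∈ DD P V, ∃ g, ∃ i ∈ DS V T 1, d = g * i * g⁻¹ := by
    intro d hd
    have h1 : Com V {d} := by
      refine ⟨by rintro x rfl; exact hd, ?_⟩
      rintro x rfl y rfl
      rfl
    obtain ⟨g, hg⟩ := h1.exists_subset h.faith T
    have h2 : d ∈ DS V T g := hg rfl
    rw [DS_eq_cj, mem_cj] at h2
    exact ⟨g, _, h2, by group⟩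
  intro d hd e he
  obtain ⟨g, i, hi, rfl⟩ := key d hd
  obtain ⟨k, j, hj, rfl⟩ := key e he
  obtain ⟨t, -, rfl⟩ := h.exists_conj' hi hj
  refine ⟨k * t * g⁻¹, ?_⟩
  group

end Pt

end Cfsg.Agent.Omega.Transv
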