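import Cfsg.Agent.Omega.Transv.Front

/-!
# Minimal parabolics with transvections: the theorem for arbitrary modules

`Gen.main`: if `P` acts faithfully on `V` with `O₂(P) = 1`, the Sylow 2-subgroup `T` is in a unique maximal subgroup,
and `P` contains a transvection, then `V` is the direct sum of even-subset modules and of the centraliser of the
transvections.
-/

set_option autoImplicit false

namespace Cfsg.Agent.Omega.Transv

open Subgroup

variable {P : Type*} [Group P] {V : Type*} [AddCommGroup V] [Module (ZMod 2) V] [DistribMulAction P V]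

open Classical in
/-- `V` is the direct sum of `k` even-subset modules with points `w i x`, `x ∈ Fin (2 ^ m + 1)` (the sum of the points
of each summand is zero), and of the centraliser of the transvections; the transvections of `P` are the transpositions
of the points of one summand. -/
structure SymMod (P V : Type*) [Group P] [AddCommGroup V] [Module (ZMod 2) V] [DistribMulAction P V]
    (T : Sylow 2 P) (k m : ℕ) (w : Fin k → Fin (2 ^ m + 1) → V) : Prop where
  k_pos : 0 < k
  m_pos : 0 < m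
  /-- the points of a summand have sum zero -/
  sum_zero : ∀ i, ∑ x, w i x = 0
  /-- this is the only relation -/
  indep : LinearIndependent (ZMod 2) fun p : Fin k × Fin (2 ^ m) => w p.1 p.2.succ
  /-- the centraliser of the transvections is a complement -/
  compl : IsCompl (Submodule.span (ZMod 2) (Set.range fun p : Fin k × Fin (2 ^ m) => w p.1 p.2.succ))
    (fixS V (closure (DD P V)))
  /-- the transposition `(x y)` of the summand `i` is a transvection with centre `w i x + w i y` -/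
  swap : ∀ i x y, x ≠ y → ∃ d : P, ∃ χ : Du V, Tv d (w i x + w i y) χ ∧
    ∀ j z, (d • w j z = w j (if j = i then Equiv.swap x y z else z)) ∧ (χ (w j z) = 1 ↔ j = i ∧ (z = x ∨ z = y))
  /-- there are no other transvections -/
  all : ∀ (d : P) (a : V) (χ : Du V), Tv d a χ → ∃ i x y, x ≠ y ∧ a = w i x + w i y ∧
    ∀ j z, (d • w j z = w j (if j = i then Equiv.swap x y z else z)) ∧ (χ (w j z) = 1 ↔ j = i ∧ (z = x ∨ z = y))
  /-- `P` permutes the points -/
  perm : ∀ g : P, ∃ (σ : Equiv.Perm (Fin k)) (τ : Fin k → Equiv.Perm (Fin (2 ^ m + 1))),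
    ∀ i x, g • w i x = w (σ i) (τ i x)
  /-- the action on the points is faithful -/
  faithful : ∀ g : P, (∀ i x, g • w i x = w i x) → g = 1
  /-- `T` fixes the points `0` -/
  fix0 : ∀ t ∈ T, ∀ i, ∃ j, t • w i 0 = w j 0
  /-- `T` permutes the summands transitively -/
  trans : ∀ i j, ∃ t ∈ T, t • w i 0 = w j 0
  /-- generation -/
  gen : closure (DD P V) ⊔ (T : Subgroup P) = ⊤
  /-- the transvections are conjugate -/
  conj : ∀ d ∈ DD P V, ∀ e ∈ DD P V, ∃ g, e = g * d * g⁻¹
  /-- a transvection is determined by its centre -/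
  eq_of_ctr : ∀ (d e : P) (a : V) (χ χ' : Du V), Tv d a χ → Tv e a χ' → d = e

namespace Gen

variable {T : Sylow 2 P} {M : Subgroup P} {d : P} {a : V} {φ : Du V}
variable {W : Type*} [AddCommGroup W] [Module (ZMod 2) W] [DistribMulAction P W]
  {p : cen P a →ₗ[ZMod 2] W}

theorem lift_frame [Finite P] [Finite V] [Finite W] (hG : Gen P V T M) (hd : Tv d a φ) (hp : Function.Surjective p)
    (heq : ∀ (g : P) (v : cen P a), p ⟨g • (v : V), inv_cen a g v v.2⟩ = g • p v)
    (hker : ∀ v : cen P a, p v = 0 ↔ (v : V) ∈ fixS V (normalClosure {d})) {k m : ℕ}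
    {w' : Fin k → Fin (2 ^ m + 1) → W} (hF : SymFrame P W T k m w') :
    ∃ w : Fin k → Fin (2 ^ m + 1) → V, SymMod P V T k m w := by
  classical
  have hfW := faith_sect hG hd heq hker
  -- the conjugates of `d`
  have hconj : ∀ g : P, ∃ ψ' : Du W, Tv (g * d * g⁻¹) (p ⟨g • a, smul_mem_cen g a⟩) ψ' ∧
      ∀ v : cen P a, ψ' (p v) = (dua g φ) v := tv_sect_conj hG hd hp heq hker
  have hdW : d ∈ DD P W := by
    obtain ⟨ψ', h1, -⟩ := hconj 1
    have h2 : 1 * d * 1⁻¹ = d := by group
    rw [h2] at h1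
    exact h1.mem
  -- transvections on `W` are conjugates of `d`
  have hall : ∀ (e : P) (c : W) (χ : Du W), Tv e c χ → ∃ g : P, e = g * d * g⁻¹ ∧
      c = p ⟨g • a, smul_mem_cen g a⟩ ∧ ∀ v : cen P a, χ (p v) = (dua g φ) v := by
    intro e c χ he
    obtain ⟨g, hg⟩ := hF.conj d hdW e he.mem
    obtain ⟨ψ', h1, h2⟩ := hconj g
    rw [← hg] at h1
    obtain ⟨h3, h4⟩ := he.unique h1
    refine ⟨g, hg, h3, fun v => ?_⟩
    rw [h4, h2]
  -- the transpositions `(0 x)`
  have hsw : ∀ q : Fin k × Fin (2 ^ m), ∃ g : P,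
      w' q.1 0 + w' q.1 q.2.succ = p ⟨g • a, smul_mem_cen g a⟩ := by
    rintro ⟨i, x⟩
    obtain ⟨e, χ, he, h1⟩ := hF.swap i 0 x.succ (Fin.succ_ne_zero x).symm
    obtain ⟨g, hg, h2, h3⟩ := hall e _ χ he
    exact ⟨g, h2⟩
  choose G hG1 using hsw
  -- the centres `(x y)`
  have hcen : ∀ g : P, (∃ q, g • a = G q • a ∧ dua g φ = dua (G q) φ ∧ g * d * g⁻¹ = G q * d * (G q)⁻¹) ∨
      ∃ q q', g * d * g⁻¹ = (G q * d * (G q)⁻¹) * (G q' * d * (G q')⁻¹) * (G q * d * (G q)⁻¹) := by
    intro g
    obtain ⟨ψ', h1, h2⟩ := hconj g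
    obtain ⟨i, x, y, hxy, hc, h3⟩ := hF.all _ _ _ h1
    -- one of them is zero
    have hz : ∀ z : Fin (2 ^ m), p ⟨g • a, smul_mem_cen g a⟩ = w' i 0 + w' i z.succ →
        ∃ q, g • a = G q • a ∧ dua g φ = dua (G q) φ ∧ g * d * g⁻¹ = G q * d * (G q)⁻¹ := by
      intro z hz
      obtain ⟨ψ2, h4, -⟩ := hconj (G (i, z))
      have h5 : p ⟨G (i, z) • a, smul_mem_cen _ a⟩ = p ⟨g • a, smul_mem_cen g a⟩ := by
        rw [hz, ← hG1 (i, z)]
      rw [h5] at h4
      have h6 := hF.eq_of_ctr _ _ _ _ _ h1 h4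
      have h7 := hd.conj g
      rw [h6] at h7
      obtain ⟨h8, h9⟩ := h7.unique (hd.conj (G (i, z)))
      exact ⟨(i, z), h8, h9, h6⟩
    rcases Fin.eq_zero_or_eq_succ x with rfl | ⟨x', rfl⟩
    · rcases Fin.eq_zero_or_eq_succ y with rfl | ⟨y', rfl⟩
      · exact absurd rfl hxy
      · exact Or.inl (hz y' hc)
    · rcases Fin.eq_zero_or_eq_succ y with rfl | ⟨y', rfl⟩
      · rw [add_comm] at hc
        exact Or.inl (hz x' hc)
      · right
        refine ⟨(i, x'), (i, y'), ?_⟩
        obtain ⟨e, χ, he, h4⟩ := hF.swap i 0 x'.succ (Fin.succ_ne_zero x').symm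
        obtain ⟨f, η, hf, h5⟩ := hF.swap i 0 y'.succ (Fin.succ_ne_zero y').symm
        have he' : e = G (i, x') * d * (G (i, x'))⁻¹ := by
          obtain ⟨ψ2, h6, -⟩ := hconj (G (i, x'))
          rw [← hG1 (i, x')] at h6
          exact hF.eq_of_ctr _ _ _ _ _ he h6
        have hf' : f = G (i, y') * d * (G (i, y'))⁻¹ := by
          obtain ⟨ψ2, h6, -⟩ := hconj (G (i, y'))
          rw [← hG1 (i, y')] at h6
          exact hF.eq_of_ctr _ _ _ _ _ hf h6
        rw [← he', ← hf']
        have h6 := he.conj_tv hfW hf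
        have h7 : χ (w' i 0 + w' i y'.succ) = 1 := by
          have h8 : χ (w' i 0) = 1 := (h4 i 0).2.mpr ⟨rfl, Or.inl rfl⟩
          have h9 : χ (w' i y'.succ) = 0 := by
            refine eq_zero_of_ne fun h0 => ?_
            rcases ((h4 i y'.succ).2.mp h0).2 with h10 | h10
            · exact Fin.succ_ne_zero y' h10
            · exact hxy h10.symm
          rw [map_add, h8, h9, add_zero]
        rw [h7, one_smul] at h6
        have h8 : w' i 0 + w' i y'.succ + (w' i 0 + w' i x'.succ) = p ⟨g • a, smul_mem_cen g a⟩ := by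
          rw [hc, Fr.cancel_mid, add_comm]
        rw [h8] at h6
        exact hF.eq_of_ctr _ _ _ _ _ h1 h6
  -- dimensions
  have hspan : cen P a ≤ Submodule.span (ZMod 2) (Set.range fun q => G q • a) := by
    rw [cen, Submodule.span_le]
    rintro _ ⟨g, rfl⟩
    change g • a ∈ Submodule.span (ZMod 2) (Set.range fun q => G q • a)
    rcases hcen g with ⟨q, h1, -, -⟩ | ⟨q, q', h1⟩
    · rw [h1]
      exact Submodule.subset_span ⟨q, rfl⟩
    · have h2 := (hd.conj (G q)).conj_tv hG.faith (hd.conj (G q'))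
      rw [← h1] at h2
      rw [((hd.conj g).unique h2).1]
      exact Submodule.add_mem _ (Submodule.subset_span ⟨q', rfl⟩)
        (Submodule.smul_mem _ _ (Submodule.subset_span ⟨q, rfl⟩))
  have hcard : Fintype.card (Fin k × Fin (2 ^ m)) = k * 2 ^ m := by
    rw [Fintype.card_prod, Fintype.card_fin, Fintype.card_fin]
  have hfr1 : Module.finrank (ZMod 2) (cen P a) ≤ k * 2 ^ m := by
    rw [← hcard]
    exact (Submodule.finrank_mono hspan).trans (finrank_range_le_card _)
  have hfrW : Module.finrank (ZMod 2) W = k * 2 ^ m := by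
    rw [← hcard]
    exact Module.finrank_eq_card_basis (Module.Basis.mk hF.indep hF.span.ge)
  have hinj : Function.Injective p := by
    have h1 := LinearMap.finrank_range_add_finrank_ker p
    rw [LinearMap.range_eq_top.mpr hp, finrank_top, hfrW] at h1
    have h2 : Module.finrank (ZMod 2) (LinearMap.ker p) = 0 := by omega
    rw [← LinearMap.ker_eq_bot]
    exact Submodule.finrank_eq_zero.mp h2
  have hfr2 : Module.finrank (ZMod 2) (cen P a) = k * 2 ^ m := by
    have h1 := LinearMap.finrank_range_add_finrank_ker p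
    rw [LinearMap.range_eq_top.mpr hp, finrank_top, hfrW] at h1
    omega
  -- the complement
  have hdisj : Disjoint (cen P a) (fixS V (normalClosure {d})) := by
    rw [Submodule.disjoint_def]
    intro v hv hv'
    have h1 : p ⟨v, hv⟩ = 0 := (hker _).mpr hv'
    rw [← map_zero p] at h1
    exact congrArg Subtype.val (hinj h1)
  have hcodim : Module.finrank (ZMod 2) V ≤
      Module.finrank (ZMod 2) (cen P a) + Module.finrank (ZMod 2) (fixS V (normalClosure {d})) := by
    let Ψ : V →ₗ[ZMod 2] (Fin k × Fin (2 ^ m) → ZMod 2) := LinearMap.pi fun q => dua (G q) φ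
    have h1 := LinearMap.finrank_range_add_finrank_ker Ψ
    have h2 : Module.finrank (ZMod 2) (LinearMap.range Ψ) ≤ k * 2 ^ m := by
      have h3 := Submodule.finrank_le (LinearMap.range Ψ)
      rwa [Module.finrank_fintype_fun_eq_card, hcard] at h3
    have h3 : LinearMap.ker Ψ ≤ fixS V (normalClosure {d}) := by
      intro v hv
      have h4 : ∀ q, (dua (G q) φ) v = 0 := fun q => congrFun hv q
      have h5 : ∀ q, (G q * d * (G q)⁻¹) • v = v := fun q => ((hd.conj (G q)).fix_iff v).mpr (h4 q)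
      rw [mem_fixS_iff hd]
      intro g
      rcases hcen g with ⟨q, -, h6, -⟩ | ⟨q, q', h6⟩
      · rw [h6]
        exact h4 q
      · rw [← (hd.conj g).fix_iff, h6, mul_smul, mul_smul, h5, h5, h5]
    have h4 := Submodule.finrank_mono h3
    omega
  have hcompl : IsCompl (cen P a) (fixS V (normalClosure {d})) :=
    (Submodule.isCompl_iff_disjoint _ _ hcodim).mpr hdisj
  -- the points
  choose w1 hw1 using fun i x => hp (w' i x)
  -- equivariance
  have hact : ∀ (g : P) i x j y, g • w' i x = w' j y → g • (w1 i x : V) = w1 j y := by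
    intro g i x j y h1
    rw [← hw1, ← hw1, ← heq] at h1
    exact congrArg Subtype.val (hinj h1)
  -- transvections on `V` are transvections on `W`
  have hdown : ∀ (e : P) (c : V) (ψ : Du V), Tv e c ψ → ∃ g : P, e = g * d * g⁻¹ ∧ c = g • a ∧ ψ = dua g φ := by
    intro e c ψ he
    -- `ψ` is not zero on `cen P a`
    have h1 : ∃ v ∈ cen P a, ψ v = 1 := by
      by_contra hcon
      push Not at hcon
      apply he.ne_one
      refine hfW e fun u => ?_
      obtain ⟨⟨v, hv⟩, rfl⟩ := hp u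
      rw [← heq]
      congr 1
      apply Subtype.ext
      change e • v = v
      exact (he.fix_iff v).mpr (eq_zero_of_ne (hcon v hv))
    obtain ⟨v, hv, hv1⟩ := h1
    have hc : c ∈ cen P a := by
      have h2 : e • v + v ∈ cen P a := Submodule.add_mem _ (inv_cen a e v hv) hv
      rw [he.act, hv1, one_smul, Fr.cancel_right] at h2
      exact h2
    have h2 : Tv e (p ⟨c, hc⟩) ((ψ.comp (cen P a).subtype).comp
        (LinearEquiv.ofBijective p ⟨hinj, hp⟩).symm.toLinearMap) := by
      have h3 : ∀ u : cen P a, (LinearEquiv.ofBijective p ⟨hinj, hp⟩).symm (p u) = u := fun u => by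
        rw [LinearEquiv.symm_apply_eq]
        rfl
      refine ⟨?_, ?_, ?_⟩
      · intro h4
        rw [← map_zero p] at h4
        exact he.ne (congrArg Subtype.val (hinj h4))
      · intro h4
        have h5 := LinearMap.congr_fun h4 (p ⟨v, hv⟩)
        change ψ (((LinearEquiv.ofBijective p ⟨hinj, hp⟩).symm (p ⟨v, hv⟩) : cen P a) : V) = 0 at h5
        rw [h3] at h5
        exact one_ne (hv1.symm.trans h5)
      · intro u
        obtain ⟨u, rfl⟩ := hp u
        change e • p u = p u + ψ (((LinearEquiv.ofBijective p ⟨hinj, hp⟩).symm (p u) : cen P a) : V) • _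
        rw [h3, ← heq, ← map_smul, ← map_add]
        congr 1
        apply Subtype.ext
        exact he.act u
    obtain ⟨g, hg, -, -⟩ := hall e _ _ h2
    have h3 := hd.conj g
    rw [← hg] at h3
    obtain ⟨h4, h5⟩ := he.unique h3
    exact ⟨g, hg, h4, h5⟩
  have hclos : closure (DD P V) = normalClosure {d} := by
    rw [closure_eq]
    apply le_antisymm
    · rw [closure_le]
      rintro e ⟨c, ψ, he⟩
      obtain ⟨g, hg, -, -⟩ := hdown e c ψ he
      exact subset_closure ⟨g, hg.symm⟩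
    · rw [closure_le]
      rintro _ ⟨g, rfl⟩
      exact subset_closure (mem_DD_conj hd.mem g)
  have hspw : Submodule.span (ZMod 2) (Set.range fun q : Fin k × Fin (2 ^ m) => (w1 q.1 q.2.succ : V)) = cen P a := by
    have h1 : (Set.range fun q : Fin k × Fin (2 ^ m) => (w1 q.1 q.2.succ : V)) =
        (cen P a).subtype '' Set.range fun q : Fin k × Fin (2 ^ m) => w1 q.1 q.2.succ := by
      ext v
      constructor
      · rintro ⟨q, rfl⟩
        exact ⟨_, ⟨q, rfl⟩, rfl⟩
      · rintro ⟨_, ⟨q, rfl⟩, rfl⟩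
        exact ⟨q, rfl⟩
    have h2 : Submodule.span (ZMod 2) (Set.range fun q : Fin k × Fin (2 ^ m) => w1 q.1 q.2.succ) = ⊤ := by
      have h3 : (Submodule.span (ZMod 2) (Set.range fun q : Fin k × Fin (2 ^ m) => w1 q.1 q.2.succ)).map p = ⊤ := by
        rw [Submodule.map_span, ← hF.span]
        congr 1
        ext u
        constructor
        · rintro ⟨_, ⟨q, rfl⟩, rfl⟩
          exact ⟨q, (hw1 _ _).symm⟩
        · rintro ⟨q, rfl⟩
          exact ⟨_, ⟨q, rfl⟩, hw1 _ _⟩
      rw [eq_top_iff]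
      intro v _
      have h4 : p v ∈ (Submodule.span (ZMod 2) (Set.range fun q : Fin k × Fin (2 ^ m) => w1 q.1 q.2.succ)).map p := by
        rw [h3]
        exact Submodule.mem_top
      obtain ⟨u, hu, huv⟩ := h4
      rw [← hinj huv]
      exact hu
    rw [h1, ← Submodule.map_span, h2, Submodule.map_top, Submodule.range_subtype]
  -- the values of the functionals
  have hval : ∀ (g : P) (i : Fin k) (x y : Fin (2 ^ m + 1)) (χ : Du W),
      Tv (g * d * g⁻¹) (w' i x + w' i y) χ → (∀ j z, (χ (w' j z) = 1 ↔ j = i ∧ (z = x ∨ z = y))) →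
      g • a = (w1 i x : V) + w1 i y ∧ ∀ j z, ((dua g φ) (w1 j z : V) = 1 ↔ j = i ∧ (z = x ∨ z = y)) := by
    intro g i x y χ h1 h2
    obtain ⟨ψ', h3, h4⟩ := hconj g
    obtain ⟨h5, h6⟩ := h1.unique h3
    constructor
    · rw [← hw1, ← hw1, ← map_add] at h5
      exact (congrArg Subtype.val (hinj h5)).symm
    · intro j z
      rw [← h4, ← h6, hw1]
      exact h2 j z
  refine ⟨fun i x => (w1 i x : V), ⟨hF.k_pos, hF.m_pos, fun i => ?_, ?_, ?_, fun i x y hxy => ?_, fun e c χ he => ?_,
    fun g => ?_, fun g hg => ?_, fun t ht i => ?_, fun i j => ?_, ?_, fun e he f hf => ?_, fun e f c χ χ' he hf => ?_⟩⟩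
  · -- sum_zero
    have h1 : p (∑ x, w1 i x) = 0 := by
      rw [map_sum, ← hF.sum_zero i]
      exact Finset.sum_congr rfl fun x _ => hw1 i x
    rw [← map_zero p] at h1
    have h2 := congrArg (cen P a).subtype (hinj h1)
    rw [map_sum, map_zero] at h2
    exact h2
  · -- indep
    have h1 : LinearIndependent (ZMod 2) fun q : Fin k × Fin (2 ^ m) => w1 q.1 q.2.succ := by
      refine LinearIndependent.of_comp p ?_
      have h2 : (p ∘ fun q : Fin k × Fin (2 ^ m) => w1 q.1 q.2.succ) = fun q => w' q.1 q.2.succ := by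
        funext q
        exact hw1 _ _
      rw [h2]
      exact hF.indep
    exact h1.map' (cen P a).subtype (Submodule.ker_subtype _)
  · -- compl
    rw [hspw, hclos]
    exact hcompl
  · -- swap
    obtain ⟨e, χ, he, h1⟩ := hF.swap i x y hxy
    obtain ⟨g, rfl, -, -⟩ := hall e _ χ he
    obtain ⟨h2, h3⟩ := hval g i x y χ he fun j z => (h1 j z).2
    refine ⟨g * d * g⁻¹, dua g φ, ?_, fun j z => ⟨hact _ _ _ _ _ (h1 j z).1, h3 j z⟩⟩
    rw [← h2]
    exact hd.conj g
  · -- all
    obtain ⟨g, rfl, rfl, rfl⟩ := hdown e c χ he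
    obtain ⟨ψ', h1, -⟩ := hconj g
    obtain ⟨i, x, y, hxy, h2, h3⟩ := hF.all _ _ _ h1
    rw [h2] at h1
    obtain ⟨h4, h5⟩ := hval g i x y ψ' h1 fun j z => (h3 j z).2
    exact ⟨i, x, y, hxy, h4, fun j z => ⟨hact _ _ _ _ _ (h3 j z).1, h5 j z⟩⟩
  · -- perm
    obtain ⟨σ, τ, h1⟩ := hF.perm g
    exact ⟨σ, τ, fun i x => hact _ _ _ _ _ (h1 i x)⟩
  · -- faithful
    refine hfW g fun u => ?_
    have h1 : Submodule.span (ZMod 2) (Set.range fun q : Fin k × Fin (2 ^ m) => w' q.1 q.2.succ) ≤
        LinearMap.ker ((lin g : W →ₗ[ZMod 2] W) - LinearMap.id) := by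
      rw [Submodule.span_le]
      rintro _ ⟨q, rfl⟩
      change g • w' q.1 q.2.succ - w' q.1 q.2.succ = 0
      rw [← hw1, ← heq, sub_eq_zero]
      congr 1
      apply Subtype.ext
      exact hg _ _
    rw [hF.span] at h1
    have h2 : g • u - u = 0 := h1 (Submodule.mem_top (x := u))
    exact sub_eq_zero.mp h2
  · -- fix0
    obtain ⟨j, hj⟩ := hF.fix0 t ht i
    exact ⟨j, hact _ _ _ _ _ hj⟩
  · -- trans
    obtain ⟨t, ht, hj⟩ := hF.trans i j
    exact ⟨t, ht, hact _ _ _ _ _ hj⟩
  · -- gen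
    rw [eq_top_iff, ← hF.gen]
    refine sup_le_sup_right ?_ _
    rw [closure_le]
    rintro e ⟨c, χ, he⟩
    obtain ⟨g, rfl, -, -⟩ := hall e c χ he
    exact subset_closure (mem_DD_conj hd.mem g)
  · -- conj
    obtain ⟨c, ψ, he⟩ := he
    obtain ⟨c', ψ', hf⟩ := hf
    obtain ⟨g, rfl, -, -⟩ := hdown e c ψ he
    obtain ⟨g', rfl, -, -⟩ := hdown f c' ψ' hf
    refine ⟨g' * g⁻¹, ?_⟩
    group
  · -- eq_of_ctr
    obtain ⟨g, rfl, h1, -⟩ := hdown e c χ he
    obtain ⟨g', rfl, h2, -⟩ := hdown f c χ' hf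
    obtain ⟨ψ1, h3, -⟩ := hconj g
    obtain ⟨ψ2, h4, -⟩ := hconj g'
    have h5 : (⟨g • a, smul_mem_cen g a⟩ : cen P a) = ⟨g' • a, smul_mem_cen g' a⟩ :=
      Subtype.ext (h1.symm.trans h2)
    rw [← h5] at h4
    exact hF.eq_of_ctr _ _ _ _ _ h3 h4

/-- **Theorem TV** for arbitrary faithful modules -/
theorem main [Finite P] [Finite V] (hG : Gen P V T M) :
    ∃ (k m : ℕ) (w : Fin k → Fin (2 ^ m + 1) → V), SymMod P V T k m w := by
  obtain ⟨d, a, φ, hd⟩ := hG.tv
  let act1 : DistribMulAction P (cen P a) := subAct (inv_cen a)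
  let C : Submodule (ZMod 2) (cen P a) := (fixS V (normalClosure {d})).comap (cen P a).subtype
  have hC : Inv P C := fun g v hv => inv_fixS (V := V) normalClosure_normal g (v : V) hv
  let act2 : DistribMulAction P (cen P a ⧸ C) := quoAct hC
  have hp : Function.Surjective C.mkQ := C.mkQ_surjective
  have heq : ∀ (g : P) (v : cen P a), C.mkQ ⟨g • (v : V), inv_cen a g v v.2⟩ = g • C.mkQ v := fun g v => rfl
  have hker : ∀ v : cen P a, C.mkQ v = 0 ↔ (v : V) ∈ fixS V (normalClosure {d}) := by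
    intro v
    rw [Submodule.mkQ_apply, Submodule.Quotient.mk_eq_zero]
    exact Iff.rfl
  have : Finite (cen P a ⧸ C) := Finite.of_surjective _ hp
  obtain ⟨k, m, w, hw⟩ := (hyp_sect hG hd hp heq hker).main
  obtain ⟨w', hw'⟩ := lift_frame hG hd hp heq hker hw
  exact ⟨k, m, w', hw'⟩

end Gen

end Cfsg.Agent.Omega.Transv
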