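import Cfsg.Agent.Omega.Transv.Perm

/-!
# Minimal parabolics with transvections: the theorem

`Hyp.main`: a minimal parabolic group generated over `F₂` with transvections is a product of symmetric groups of
degree `2 ^ m + 1`, permuted transitively by a Sylow 2-subgroup, and its module is the sum of the even-subset modules.
-/

set_option autoImplicit false

namespace Cfsg.Agent.Omega.Transv

open Subgroup

variable {P : Type*} [Group P] {V : Type*} [AddCommGroup V] [Module (ZMod 2) V] [DistribMulAction P V]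

open Classical in
/-- `V` is the direct sum of `k` even-subset modules with points `w i x`, `x ∈ Fin (2 ^ m + 1)` (the sum of the points
of each summand is zero), and the transvections of `P` are the transpositions of the points of one summand. -/
structure SymFrame (P V : Type*) [Group P] [AddCommGroup V] [Module (ZMod 2) V] [DistribMulAction P V]
    (T : Sylow 2 P) (k m : ℕ) (w : Fin k → Fin (2 ^ m + 1) → V) : Prop where
  k_pos : 0 < k
  m_pos : 0 < m
  /-- the points of a summand have sum zero -/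
  sum_zero : ∀ i, ∑ x, w i x = 0
  /-- this is the only relation -/
  indep : LinearIndependent (ZMod 2) fun p : Fin k × Fin (2 ^ m) => w p.1 p.2.succ
  span : Submodule.span (ZMod 2) (Set.range fun p : Fin k × Fin (2 ^ m) => w p.1 p.2.succ) = ⊤
  /-- the transposition `(x y)` of the summand `i` is a transvection with centre `w i x + w i y` -/
  swap : ∀ i x y, x ≠ y → ∃ d : P, ∃ χ : Du V, Tv d (w i x + w i y) χ ∧
    ∀ j z, (d • w j z = w j (if j = i then Equiv.swap x y z else z)) ∧ (χ (w j z) = 1 ↔ j = i ∧ (z = x ∨ z = y))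
  /-- there are no other transvections -/
  all : ∀ (d : P) (a : V) (χ : Du V), Tv d a χ → ∃ i x y, x ≠ y ∧ a = w i x + w i y ∧
    ∀ j z, (d • w j z = w j (if j = i then Equiv.swap x y z else z)) ∧ (χ (w j z) = 1 ↔ j = i ∧ (z = x ∨ z = y))
  /-- `P` permutes the points -/
  perm : ∀ g : P, ∃ (σ : Equiv.Perm (Fin k)) (τ : Fin k → Equiv.Perm (Fin (2 ^ m + 1))),
    ∀ i x, g • w i x = w (σ i) (τ i x)
  /-- `T` fixes the points `0` -/
  fix0 : ∀ t ∈ T, ∀ i, ∃ j, t • w i 0 = w j 0
  /-- `T` permutes the summands transitively -/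
  trans : ∀ i j, ∃ t ∈ T, t • w i 0 = w j 0
  /-- generation -/
  gen : closure (DD P V) ⊔ (T : Subgroup P) = ⊤
  /-- the transvections are conjugate -/
  conj : ∀ d ∈ DD P V, ∀ e ∈ DD P V, ∃ g, e = g * d * g⁻¹
  /-- a transvection is determined by its centre -/
  eq_of_ctr : ∀ (d e : P) (a : V) (χ χ' : Du V), Tv d a χ → Tv e a χ' → d = e

namespace Fr

variable {T : Sylow 2 P} {M : Subgroup P} {v0 : V} {ψ0 : Du V} {ι : Type*} [DecidableEq ι] {D E : ι → P}
  {a b : ι → V} {φ ε : ι → Du V} [Finite P] [Fintype ι] [Nonempty ι]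

/-- the number of the indices is a power of 2 -/
theorem card_index [Finite V] (h : Fr P V T M v0 ψ0 ι D E a b φ ε) : ∃ n, Nat.card ι = 2 ^ n := by
  have : Fact (Nat.Prime 2) := ⟨Nat.prime_two⟩
  obtain ⟨i0⟩ := ‹Nonempty ι›
  obtain ⟨n, hn⟩ := T.isPGroup'.card_orbit (a i0)
  refine ⟨n, ?_⟩
  rw [← hn]
  have h1 : Set.range a = MulAction.orbit T (a i0) := by
    ext x
    constructor
    · rintro ⟨j, rfl⟩
      obtain ⟨t, ht, htj⟩ := h.trans i0 j
      refine ⟨⟨t, ht⟩, ?_⟩
      have h1 := (h.hD i0).conj t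
      rw [← htj] at h1
      exact (h1.unique (h.hD j)).1
    · rintro ⟨⟨t, ht⟩, rfl⟩
      obtain ⟨f, hf⟩ := h.exists_f ht
      exact ⟨f i0, (hf i0).symm⟩
  rw [← h1]
  exact Nat.card_congr (Equiv.ofInjective a fun i j hij => h.a_inj hij)

theorem card_fiber (h : Fr P V T M v0 ψ0 ι D E a b φ ε) (C : h.Cl) :
    Nat.card {z : h.Om // h.cl z = C} = 2 * Nat.card {i // h.q i = C} + 1 := by
  have e1 : {z : h.Om // h.cl z = C} ≃ {C' : h.Cl // C' = C} ⊕ {p : ι × ZMod 2 // h.q p.1 = C} :=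
    Equiv.subtypeSum
  have e2 : {p : ι × ZMod 2 // h.q p.1 = C} ≃ {i // h.q i = C} × ZMod 2 :=
    Equiv.prodSubtypeFstEquivSubtypeProd (p := fun i => h.q i = C)
  rw [Nat.card_congr e1, Nat.card_sum, Nat.card_congr e2, Nat.card_prod, Nat.card_zmod, Nat.card_unique]
  ring

theorem exists_card [Finite V] (h : Fr P V T M v0 ψ0 ι D E a b φ ε) :
    ∃ m, 0 < m ∧ ∀ C : h.Cl, Nat.card {z : h.Om // h.cl z = C} = 2 ^ m + 1 := by
  classical
  obtain ⟨n, hn⟩ := h.card_index
  obtain ⟨i0⟩ := ‹Nonempty ι›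
  have h1 : Nat.card ι = Nat.card h.Cl * Nat.card {i // h.q i = h.q i0} := by
    let hfin : Fintype h.Cl := Fintype.ofFinite _
    rw [Nat.card_congr (Equiv.sigmaFiberEquiv h.q).symm, Nat.card_sigma]
    rw [Finset.sum_congr rfl fun C _ => h.card_q C (h.q i0), Finset.sum_const, Finset.card_univ,
      Nat.card_eq_fintype_card (α := h.Cl), smul_eq_mul]
  have h2 : Nat.card {i // h.q i = h.q i0} ∣ 2 ^ n := by
    rw [← hn, h1]
    exact Nat.dvd_mul_left _ _
  obtain ⟨r, -, hr⟩ := (Nat.dvd_prime_pow Nat.prime_two).mp h2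
  refine ⟨r + 1, Nat.succ_pos r, fun C => ?_⟩
  rw [h.card_fiber, h.card_q C (h.q i0), hr, pow_succ]
  ring

/-- a numbering of the points -/
theorem exists_num [Finite V] (h : Fr P V T M v0 ψ0 ι D E a b φ ε) :
    ∃ (k m : ℕ) (c : Fin k ≃ h.Cl) (e : Fin k × Fin (2 ^ m + 1) ≃ h.Om), 0 < k ∧ 0 < m ∧
      (∀ p, h.cl (e p) = c p.1) ∧ ∀ i, e (i, 0) = Sum.inl (c i) := by
  classical
  obtain ⟨m, hm, hcard⟩ := h.exists_card
  let c : Fin (Nat.card h.Cl) ≃ h.Cl := (Finite.equivFin h.Cl).symm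
  have h1 : ∀ C : h.Cl, ∃ f : Fin (2 ^ m + 1) ≃ {z : h.Om // h.cl z = C}, f 0 = ⟨Sum.inl C, rfl⟩ := by
    intro C
    have e1 : Fin (2 ^ m + 1) ≃ {z : h.Om // h.cl z = C} := (Finite.equivFinOfCardEq (hcard C)).symm
    refine ⟨(Equiv.swap 0 (e1.symm ⟨Sum.inl C, rfl⟩)).trans e1, ?_⟩
    rw [Equiv.trans_apply, Equiv.swap_apply_left, Equiv.apply_symm_apply]
  choose f hf using h1
  have hbij : Function.Bijective fun p : Fin (Nat.card h.Cl) × Fin (2 ^ m + 1) => ((f (c p.1) p.2 : _) : h.Om) := by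
    constructor
    · rintro ⟨i, x⟩ ⟨j, y⟩ hxy
      have hxy' : ((f (c i) x : _) : h.Om) = f (c j) y := hxy
      have h2 : c i = c j := by
        rw [← (f (c i) x).2, ← (f (c j) y).2, hxy']
      have h3 : i = j := c.injective h2
      subst h3
      have h4 : x = y := (f (c i)).injective (Subtype.ext hxy')
      rw [h4]
    · intro z
      refine ⟨(c.symm (h.cl z), (f (c (c.symm (h.cl z)))).symm ⟨z, by rw [Equiv.apply_symm_apply]⟩), ?_⟩
      simp
  refine ⟨Nat.card h.Cl, m, c, Equiv.ofBijective _ hbij, ?_, hm, fun p => ?_, fun i => ?_⟩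
  · obtain ⟨i⟩ := ‹Nonempty ι›
    have : Nonempty h.Cl := ⟨h.q i⟩
    exact Nat.card_pos
  · exact (f (c p.1) p.2).2
  · change ((f (c i) 0 : _) : h.Om) = Sum.inl (c i)
    rw [hf]

omit [Fintype ι] [Nonempty ι] in
/-- the centres span the module -/
theorem span_eq (h : Fr P V T M v0 ψ0 ι D E a b φ ε) (W : Submodule (ZMod 2) V)
    (hW : ∀ (c : P) (x : V) (χ : Du V), Tv c x χ → x ∈ W) : W = ⊤ := by
  by_contra hne
  obtain ⟨f, hf, hker⟩ := Submodule.exists_le_ker_of_lt_top W (lt_top_iff_ne_top.mpr hne)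
  apply hf
  set N : Subgroup P := normalClosure (DD P V) with hN
  obtain ⟨d, hd⟩ := h.tv
  have hdN : d ∈ N := subset_normalClosure hd
  refine h.fixd N normalClosure_normal (even_of_mem h.faith hd hdN) f ?_
  intro n hn
  have h1 : N ≤ { carrier := {g : P | ∀ v : V, f (g • v) = f v}
                  one_mem' := fun v => by rw [one_smul]
                  mul_mem' := fun {x y} hx hy v => by
                    rw [mul_smul, hx, hy]
                  inv_mem' := fun {x} hx v => by
                    rw [← hx (x⁻¹ • v), smul_inv_smul] } := by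
    rw [hN, normalClosure, closure_le]
    intro x hx v
    rw [Group.mem_conjugatesOfSet_iff] at hx
    obtain ⟨y, hy, hc'⟩ := hx
    obtain ⟨g, hg⟩ := isConj_iff.mp hc'
    obtain ⟨a', χ, ht⟩ := mem_DD_conj hy g
    rw [hg] at ht
    have h2 : f a' = 0 := hker (hW x a' χ ht)
    rw [ht.act, map_add, map_smul, h2, smul_zero, add_zero]
  exact h1 hn

theorem main [Finite V] (h : Fr P V T M v0 ψ0 ι D E a b φ ε) :
    ∃ (k m : ℕ) (w : Fin k → Fin (2 ^ m + 1) → V), SymFrame P V T k m w := by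
  classical
  obtain ⟨k, m, c, e, hk, hm, hcl, he0⟩ := h.exists_num
  set w : Fin k → Fin (2 ^ m + 1) → V := fun i x => h.pt (e (i, x)) with hw
  -- the Gram matrix
  have hG : ∀ i x j z, h.pd (e (i, x)) (h.pt (e (j, z))) = 1 ↔ i = j ∧ x ≠ z := by
    intro i x j z
    rw [h.pd_pt, hcl, hcl, c.injective.eq_iff, e.injective.ne_iff]
    constructor
    · rintro ⟨h1, h2⟩
      refine ⟨h1, fun h3 => h2 ?_⟩
      have h1' : i = j := h1
      rw [h1', h3]
    · rintro ⟨h1, h2⟩
      exact ⟨h1, fun h3 => h2 (congrArg Prod.snd h3)⟩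
  have hG' : ∀ i x y j z, x ≠ y → ((h.pd (e (i, x)) + h.pd (e (i, y))) (h.pt (e (j, z))) = 1 ↔
      j = i ∧ (z = x ∨ z = y)) := by
    intro i x y j z hxy
    rw [LinearMap.add_apply]
    by_cases hij : i = j
    · by_cases hx : z = x
      · have h1 : h.pd (e (i, x)) (h.pt (e (j, z))) = 0 := eq_zero_of_ne fun h0 => ((hG i x j z).mp h0).2 hx.symm
        have h2 : h.pd (e (i, y)) (h.pt (e (j, z))) = 1 := (hG i y j z).mpr ⟨hij, fun h0 => hxy (hx.symm.trans h0.symm)⟩
        rw [h1, h2, zero_add]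
        exact ⟨fun _ => ⟨hij.symm, Or.inl hx⟩, fun _ => rfl⟩
      · by_cases hy : z = y
        · have h1 : h.pd (e (i, x)) (h.pt (e (j, z))) = 1 := (hG i x j z).mpr ⟨hij, fun h0 => hx h0.symm⟩
          have h2 : h.pd (e (i, y)) (h.pt (e (j, z))) = 0 := eq_zero_of_ne fun h0 => ((hG i y j z).mp h0).2 hy.symm
          rw [h1, h2, add_zero]
          exact ⟨fun _ => ⟨hij.symm, Or.inr hy⟩, fun _ => rfl⟩
        · have h1 : h.pd (e (i, x)) (h.pt (e (j, z))) = 1 := (hG i x j z).mpr ⟨hij, fun h0 => hx h0.symm⟩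
          have h2 : h.pd (e (i, y)) (h.pt (e (j, z))) = 1 := (hG i y j z).mpr ⟨hij, fun h0 => hy h0.symm⟩
          rw [h1, h2, one_add_one]
          refine ⟨fun h0 => absurd h0 zero_ne_one', ?_⟩
          rintro ⟨-, h0 | h0⟩
          · exact absurd h0 hx
          · exact absurd h0 hy
    · have h1 : h.pd (e (i, x)) (h.pt (e (j, z))) = 0 := eq_zero_of_ne fun h0 => hij ((hG i x j z).mp h0).1
      have h2 : h.pd (e (i, y)) (h.pt (e (j, z))) = 0 := eq_zero_of_ne fun h0 => hij ((hG i y j z).mp h0).1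
      rw [h1, h2, add_zero]
      exact ⟨fun h0 => absurd h0 zero_ne_one', fun h0 => absurd h0.1.symm hij⟩
  -- the transpositions
  have hsw : ∀ i x y, x ≠ y → ∀ (d : P), Tv d (w i x + w i y) (h.pd (e (i, x)) + h.pd (e (i, y))) →
      ∀ j z, d • w j z = w j (if j = i then Equiv.swap x y z else z) := by
    intro i x y hxy d hd j z
    have hne : e (i, x) ≠ e (i, y) := fun h0 => hxy (congrArg Prod.snd (e.injective h0))
    have h1 := h.smul_pt hne (by rw [hcl, hcl]) hd (e (j, z))
    change d • h.pt (e (j, z)) = _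
    rw [h1]
    by_cases hji : j = i
    · subst hji
      rw [if_pos rfl]
      by_cases hzx : z = x
      · subst hzx
        rw [Equiv.swap_apply_left, Equiv.swap_apply_left]
      · by_cases hzy : z = y
        · subst hzy
          rw [Equiv.swap_apply_right, Equiv.swap_apply_right]
        · rw [Equiv.swap_apply_of_ne_of_ne hzx hzy, Equiv.swap_apply_of_ne_of_ne]
          · exact fun h0 => hzx (congrArg Prod.snd (e.injective h0))
          · exact fun h0 => hzy (congrArg Prod.snd (e.injective h0))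
    · rw [if_neg hji, Equiv.swap_apply_of_ne_of_ne]
      · exact fun h0 => hji (congrArg Prod.fst (e.injective h0))
      · exact fun h0 => hji (congrArg Prod.fst (e.injective h0))
  have hsum : ∀ i, ∑ x, w i x = 0 := by
    intro i
    have hf : ∀ x, h.cl (e (i, x)) = c i := fun x => hcl (i, x)
    have hbij : Function.Bijective fun x : Fin (2 ^ m + 1) => (⟨e (i, x), hf x⟩ : {z : h.Om // h.cl z = c i}) := by
      constructor
      · intro x y hxy
        exact congrArg Prod.snd (e.injective (congrArg Subtype.val hxy))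
      · rintro ⟨z, hz⟩
        obtain ⟨⟨j, x⟩, rfl⟩ := e.surjective z
        have h1 : j = i := by
          rw [hcl] at hz
          exact c.injective hz
        subst h1
        exact ⟨x, rfl⟩
    let hfin : Fintype {z : h.Om // h.cl z = c i} := Fintype.ofFinite _
    rw [← h.sum_pt (c i)]
    exact hbij.sum_comp fun z => h.pt z.1
  have hw0 : ∀ i, w i 0 = ∑ x : Fin (2 ^ m), w i x.succ := by
    intro i
    have h1 := hsum i
    rw [Fin.sum_univ_succ] at h1
    exact eq_of_add h1
  refine ⟨k, m, w, hk, hm, hsum, ?_, ?_, ?_, ?_, ?_, ?_, ?_, ?_, h.all_conj, fun _ _ _ _ _ h1 h2 => h.eq_of_ctr h1 h2⟩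
  · -- independence
    rw [Fintype.linearIndependent_iff]
    rintro g hg ⟨i, x⟩
    have h1 : (h.pd (e (i, x.succ)) + h.pd (e (i, 0))) (∑ p : Fin k × Fin (2 ^ m), g p • w p.1 p.2.succ) = 0 := by
      rw [hg, map_zero]
    rw [map_sum, Finset.sum_eq_single (i, x)] at h1
    · rw [map_smul] at h1
      have h2 := (hG' i x.succ 0 i x.succ (Fin.succ_ne_zero x)).mpr ⟨rfl, Or.inl rfl⟩
      have h3 : (h.pd (e (i, x.succ)) + h.pd (e (i, 0))) (w i x.succ) = 1 := h2
      rw [h3, smul_eq_mul, mul_one] at h1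
      exact h1
    · rintro ⟨j, y⟩ - hne
      rw [map_smul]
      have h2 : (h.pd (e (i, x.succ)) + h.pd (e (i, 0))) (w j y.succ) = 0 := by
        refine eq_zero_of_ne fun h0 => ?_
        obtain ⟨h3, h4⟩ := (hG' i x.succ 0 j y.succ (Fin.succ_ne_zero x)).mp h0
        rcases h4 with h4 | h4
        · exact hne (by rw [h3, Fin.succ_injective _ h4])
        · exact Fin.succ_ne_zero y h4
      rw [h2, smul_zero]
    · intro h0
      exact absurd (Finset.mem_univ _) h0
  · -- span
    refine h.span_eq _ fun d x χ hd => ?_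
    obtain ⟨z, z', -, -, rfl⟩ := h.exists_pair hd
    have h1 : ∀ z, h.pt z ∈ Submodule.span (ZMod 2) (Set.range fun p : Fin k × Fin (2 ^ m) => w p.1 p.2.succ) := by
      intro z
      obtain ⟨⟨j, x⟩, rfl⟩ := e.surjective z
      change w j x ∈ _
      rcases Fin.eq_zero_or_eq_succ x with rfl | ⟨y, rfl⟩
      · rw [hw0]
        exact Submodule.sum_mem _ fun y _ => Submodule.subset_span ⟨(j, y), rfl⟩
      · exact Submodule.subset_span ⟨(j, y), rfl⟩
    exact Submodule.add_mem _ (h1 z) (h1 z')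
  · -- swap
    intro i x y hxy
    have hne : e (i, x) ≠ e (i, y) := fun h0 => hxy (congrArg Prod.snd (e.injective h0))
    obtain ⟨d, hd⟩ := h.exists_tv hne (by rw [hcl, hcl])
    exact ⟨d, _, hd, fun j z => ⟨hsw i x y hxy d hd j z, hG' i x y j z hxy⟩⟩
  · -- all
    intro d x χ hd
    obtain ⟨z, z', hne, hcc, rfl⟩ := h.exists_pair hd
    obtain ⟨⟨i, x⟩, rfl⟩ := e.surjective z
    obtain ⟨⟨j, y⟩, rfl⟩ := e.surjective z'
    have hij : i = j := by
      rw [hcl, hcl] at hcc
      exact c.injective hcc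
    subst hij
    have hxy : x ≠ y := fun h0 => hne (by rw [h0])
    obtain ⟨d', hd'⟩ := h.exists_tv hne hcc
    have h1 := h.eq_of_centre hd hd'
    rw [h1] at hd
    rw [h1]
    exact ⟨i, x, y, hxy, rfl, fun j z => ⟨hsw i x y hxy d hd j z, hG' i x y j z hxy⟩⟩
  · -- perm
    intro g
    obtain ⟨π, h1, h2⟩ := h.good g
    set π' : Fin k × Fin (2 ^ m + 1) → Fin k × Fin (2 ^ m + 1) := fun p => e.symm (π (e p)) with hπ'
    have hinj : Function.Injective π' := fun p p' hp => e.injective (π.injective (e.symm.injective hp))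
    have h3 : ∀ p p' : Fin k × Fin (2 ^ m + 1), p.1 = p'.1 ↔ (π' p).1 = (π' p').1 := by
      intro p p'
      have h4 := h2 (e p) (e p')
      have h5 : ∀ p, e (π' p) = π (e p) := fun p => Equiv.apply_symm_apply _ _
      rw [← h5, ← h5, hcl, hcl, hcl, hcl, c.injective.eq_iff, c.injective.eq_iff] at h4
      exact h4
    have hσ : Function.Injective fun i : Fin k => (π' (i, 0)).1 := fun i j hij => (h3 (i, 0) (j, 0)).mpr hij
    have hτ : ∀ i : Fin k, Function.Injective fun x : Fin (2 ^ m + 1) => (π' (i, x)).2 := by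
      intro i x y hxy
      have h4 := (h3 (i, x) (i, y)).mp rfl
      exact congrArg Prod.snd (hinj (Prod.ext h4 hxy))
    refine ⟨Equiv.ofBijective _ (Finite.injective_iff_bijective.mp hσ),
      fun i => Equiv.ofBijective _ (Finite.injective_iff_bijective.mp (hτ i)), fun i x => ?_⟩
    change g • h.pt (e (i, x)) = h.pt (e ((π' (i, 0)).1, (π' (i, x)).2))
    rw [h1]
    congr 1
    rw [← Equiv.symm_apply_eq]
    exact Prod.ext ((h3 (i, x) (i, 0)).mp rfl) rfl
  · -- fix0
    intro t ht i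
    obtain ⟨C', hC'⟩ := h.smul_vc' ht (c i)
    refine ⟨c.symm C', ?_⟩
    change t • h.pt (e (i, 0)) = h.pt (e (c.symm C', 0))
    rw [he0, he0, Equiv.apply_symm_apply, pt_inl, pt_inl]
    exact hC'
  · -- trans
    intro i j
    obtain ⟨t, ht, htt⟩ := h.trans_vc (c i) (c j)
    refine ⟨t, ht, ?_⟩
    change t • h.pt (e (i, 0)) = h.pt (e (j, 0))
    rw [he0, he0, pt_inl, pt_inl]
    exact htt
  · -- gen
    rcases h.max _ (le_sup_right : (T : Subgroup P) ≤ closure (DD P V) ⊔ (T : Subgroup P)) with h1 | h1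
    · exfalso
      obtain ⟨l⟩ := ‹Nonempty ι›
      exact h.EM l (h1 ((le_sup_left : closure (DD P V) ≤ _) (subset_closure (h.hE l).mem)))
    · exact h1

end Fr

/-- **Theorem TV**: minimal parabolic groups with a transvection over `F₂`. -/
theorem Hyp.main [Finite P] [Finite V] {T : Sylow 2 P} {M : Subgroup P} (hH : Hyp P V T M) :
    ∃ (k m : ℕ) (w : Fin k → Fin (2 ^ m + 1) → V), SymFrame P V T k m w := by
  classical
  obtain ⟨v0, ψ0, h⟩ := hH.exists_pt
  obtain ⟨D, E, a, b, φ, ε, hF⟩ := h.exists_fr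
  have : Nonempty (DS V T 1) := h.DS_nonempty.to_subtype
  let hfin : Fintype (DS V T 1) := Fintype.ofFinite _
  exact hF.main

end Cfsg.Agent.Omega.Transv
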