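import Cfsg.Agent.Omega.Transv.Point

/-!
# Minimal parabolics with transvections: commuting sets of transvections

`DT T` is the set of the transvections in the Sylow subgroup `T`: a commuting set of the largest size.
-/

set_option autoImplicit false

namespace Cfsg.Agent.Omega.Transv

open Subgroup

variable {P : Type*} [Group P] {V : Type*} [AddCommGroup V] [Module (ZMod 2) V] [DistribMulAction P V]

/-- the transvections in the conjugate `gTg⁻¹` -/
def DS (V : Type*) [AddCommGroup V] [Module (ZMod 2) V] [DistribMulAction P V] (T : Sylow 2 P) (g : P) : Set P :=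
  {d | d ∈ DD P V ∧ g⁻¹ * d * g ∈ T}

/-- commuting sets of transvections -/
def Com (V : Type*) [AddCommGroup V] [Module (ZMod 2) V] [DistribMulAction P V] (R : Set P) : Prop :=
  R ⊆ DD P V ∧ ∀ d ∈ R, ∀ e ∈ R, d * e = e * d

/-- conjugation as an image -/
def cj (g : P) (R : Set P) : Set P := {x | g⁻¹ * x * g ∈ R}

theorem mem_cj {g : P} {R : Set P} {x : P} : x ∈ cj g R ↔ g⁻¹ * x * g ∈ R := Iff.rfl

theorem conj_mem_cj {g : P} {R : Set P} {x : P} : g * x * g⁻¹ ∈ cj g R ↔ x ∈ R := by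
  rw [mem_cj]
  have h : g⁻¹ * (g * x * g⁻¹) * g = x := by group
  rw [h]

theorem cj_eq_image (g : P) (R : Set P) : cj g R = (fun x => g * x * g⁻¹) '' R := by
  ext x
  constructor
  · intro h
    exact ⟨_, h, by group⟩
  · rintro ⟨y, hy, rfl⟩
    exact conj_mem_cj.mpr hy

theorem ncard_cj (g : P) (R : Set P) : (cj g R).ncard = R.ncard := by
  rw [cj_eq_image]
  refine Set.ncard_image_of_injective _ fun x y h => ?_
  have h' : g * x * g⁻¹ = g * y * g⁻¹ := h
  exact mul_left_cancel (mul_right_cancel h')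

theorem DS_eq_cj (T : Sylow 2 P) (g : P) : DS V T g = cj g (DS V T 1) := by
  ext x
  rw [mem_cj]
  constructor
  · rintro ⟨h1, h2⟩
    refine ⟨by simpa using mem_DD_conj h1 g⁻¹, ?_⟩
    simpa using h2
  · rintro ⟨h1, h2⟩
    refine ⟨?_, by simpa using h2⟩
    have h3 := mem_DD_conj h1 g
    have h4 : g * (g⁻¹ * x * g) * g⁻¹ = x := by group
    rwa [h4] at h3

theorem DS_cj (T : Sylow 2 P) (g h : P) : cj h (DS V T g) = DS V T (h * g) := by
  rw [DS_eq_cj, DS_eq_cj (g := h * g)]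
  ext x
  rw [mem_cj, mem_cj, mem_cj]
  have h4 : g⁻¹ * (h⁻¹ * x * h) * g = (h * g)⁻¹ * x * (h * g) := by group
  rw [h4]

theorem ncard_DS (T : Sylow 2 P) (g : P) : (DS V T g).ncard = (DS V T 1).ncard := by
  rw [DS_eq_cj, ncard_cj]

theorem mem_DS_one {T : Sylow 2 P} {d : P} : d ∈ DS V T 1 ↔ d ∈ DD P V ∧ d ∈ T := by
  constructor
  · rintro ⟨h1, h2⟩
    exact ⟨h1, by simpa using h2⟩
  · rintro ⟨h1, h2⟩
    exact ⟨h1, by simpa using h2⟩

/-- the group generated by a commuting set of transvections -/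
theorem Com.isPGroup (hf : Faith P V) {R : Set P} (hR : Com V R) : IsPGroup 2 (closure R) := by
  have h1 : IsMulCommutative (closure R) := isMulCommutative_closure hR.2
  have h2 : ∀ x ∈ closure R, x * x = 1 := by
    intro x hx
    induction hx using closure_induction with
    | mem x hx =>
      obtain ⟨a, φ, h⟩ := hR.1 hx
      exact h.mul_self hf
    | one => exact mul_one 1
    | mul x y hx hy ihx ihy =>
      have h3 : x * y = y * x := setLike_mul_comm hx hy
      calc x * y * (x * y) = x * y * (y * x) := by rw [h3]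
        _ = x * (y * y) * x := by group
        _ = 1 := by rw [ihy, mul_one, ihx]
    | inv x hx ih => rw [← mul_inv_rev, ih, inv_one]
  intro x
  refine ⟨1, ?_⟩
  apply Subtype.ext
  change (x : P) ^ (2 ^ 1) = 1
  rw [pow_one, pow_two]
  exact h2 x x.2

theorem mem_smul_sylow {T : Sylow 2 P} {g x : P} : x ∈ g • T ↔ g⁻¹ * x * g ∈ T := by
  have h1 : x ∈ ((g • T : Sylow 2 P) : Subgroup P) ↔ g⁻¹ * x * g ∈ (T : Subgroup P) := by
    rw [Sylow.coe_subgroup_smul, mem_pointwise_smul_iff_inv_smul_mem]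
    exact Iff.rfl
  exact h1

theorem Com.exists_subset [Finite P] (hf : Faith P V) (T : Sylow 2 P) {R : Set P} (hR : Com V R) :
    ∃ g, R ⊆ DS V T g := by
  have : Fact (Nat.Prime 2) := ⟨Nat.prime_two⟩
  obtain ⟨Q, hQ⟩ := (hR.isPGroup hf).exists_le_sylow
  obtain ⟨g, hg⟩ := MulAction.exists_smul_eq P T Q
  refine ⟨g, fun x hx => ⟨hR.1 hx, ?_⟩⟩
  rw [← mem_smul_sylow, hg]
  exact hQ (subset_closure hx)

/-- a commuting set of transvections has at most as many elements as `DS T 1` -/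
theorem Com.ncard_le [Finite P] (hf : Faith P V) (T : Sylow 2 P) {R : Set P} (hR : Com V R) :
    R.ncard ≤ (DS V T 1).ncard := by
  obtain ⟨g, hg⟩ := hR.exists_subset hf T
  rw [← ncard_DS T g]
  exact Set.ncard_le_ncard hg (Set.toFinite _)

/-- maximality -/
theorem Com.eq_DS [Finite P] (hf : Faith P V) {T : Sylow 2 P} {R : Set P} (hR : Com V R) {g : P}
    (h : DS V T g ⊆ R) : R = DS V T g := by
  symm
  refine Set.eq_of_subset_of_ncard_le h ?_ (Set.toFinite _)
  rw [ncard_DS]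
  exact hR.ncard_le hf T

theorem Com.mono {R S : Set P} (hR : Com V R) (h : S ⊆ R) : Com V S :=
  ⟨h.trans hR.1, fun d hd e he => hR.2 d (h hd) e (h he)⟩

namespace Pt

variable {T : Sylow 2 P} {M : Subgroup P} {v0 : V} {ψ0 : Du V}

/-- transvections in a 2-group commute -/
theorem comm_of_pgroup [Finite P] (h : Pt P V T M v0 ψ0) {Q : Subgroup P} (hQ : IsPGroup 2 Q) {d e : P}
    (hd : d ∈ DD P V) (he : e ∈ DD P V) (hdQ : d ∈ Q) (heQ : e ∈ Q) : d * e = e * d := by
  obtain ⟨a, φ, hd⟩ := hd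
  obtain ⟨b, ψ, he⟩ := he
  rcases zmod_cases (φ b) with h0 | h1
  · exact h.comm_of_zero hd he h0
  · have h2 := h.braid hd he h1
    have h3 : (d * e) ^ 3 = 1 := by
      calc (d * e) ^ 3 = d * e * d * (e * d * e) := by rw [pow_succ, pow_two]; group
        _ = d * e * (d * d) * (e * d) := by rw [← h2]; group
        _ = d * (e * e) * d := by rw [hd.mul_self h.faith]; group
        _ = 1 := by rw [he.mul_self h.faith, mul_one, hd.mul_self h.faith]
    obtain ⟨n, hn⟩ := hQ ⟨d * e, mul_mem hdQ heQ⟩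
    have hn' : (d * e) ^ (2 ^ n) = 1 := congrArg Subtype.val hn
    have h4 := Nat.dvd_gcd (orderOf_dvd_of_pow_eq_one h3) (orderOf_dvd_of_pow_eq_one hn')
    have h5 : Nat.gcd 3 (2 ^ n) = 1 := Nat.Coprime.pow_right n (by norm_num)
    rw [h5, Nat.dvd_one, orderOf_eq_one_iff] at h4
    have h6 := eq_inv_of_mul_eq_one_left h4
    rw [h6, inv_mul_cancel, mul_inv_cancel]

theorem com_DS [Finite P] (h : Pt P V T M v0 ψ0) (g : P) : Com V (DS V T g) := by
  refine ⟨fun d hd => hd.1, fun d hd e he => ?_⟩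
  exact h.comm_of_pgroup (Q := (g • T : Sylow 2 P)) (g • T).isPGroup' hd.1 he.1 (mem_smul_sylow.mpr hd.2)
    (mem_smul_sylow.mpr he.2)

theorem DS_nonempty [Finite P] (h : Pt P V T M v0 ψ0) : (DS V T 1).Nonempty := by
  obtain ⟨d, hd⟩ := h.tv
  have h1 : Com V {d} := by
    refine ⟨by rintro x rfl; exact hd, ?_⟩
    rintro x rfl y rfl
    rfl
  have h2 := h1.ncard_le h.faith T
  rw [Set.ncard_singleton] at h2
  exact (Set.ncard_pos (Set.toFinite _)).mp h2

/-- the transvections determine the fixed vector -/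
theorem smul_eq_of_DS_eq [Finite P] (h : Pt P V T M v0 ψ0) {g k : P} (hs : DS V T g = DS V T k) :
    g • v0 = k • v0 := by
  have h0 : DS V T (k⁻¹ * g) = DS V T 1 := by
    rw [← DS_cj, hs, DS_cj, inv_mul_cancel]
  have hmem : ∀ x : P, DS V T x = DS V T 1 → x ∈ normalizer (closure (DS V T 1) : Set P) := by
    intro x hx
    have h1 : ∀ y : P, DS V T y = DS V T 1 → ∀ z ∈ closure (DS V T 1), y * z * y⁻¹ ∈ closure (DS V T 1) := by
      intro y hy z hz
      have h3 : closure (DS V T 1) ≤ (closure (DS V T 1)).comap (MulAut.conj y).toMonoidHom := by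
        rw [closure_le]
        intro d hd
        refine subset_closure ?_
        change y * d * y⁻¹ ∈ DS V T 1
        rw [← hy, DS_eq_cj]
        exact conj_mem_cj.mpr hd
      exact h3 hz
    have hx' : DS V T x⁻¹ = DS V T 1 := by
      have h4 : cj x⁻¹ (DS V T x) = cj x⁻¹ (DS V T 1) := by rw [hx]
      rw [DS_cj, DS_cj, inv_mul_cancel, mul_one] at h4
      exact h4.symm
    rw [mem_normalizer_iff]
    intro z
    refine ⟨h1 x hx z, fun hz => ?_⟩
    have h5 := h1 x⁻¹ hx' _ hz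
    have h6 : x⁻¹ * (x * z * x⁻¹) * x⁻¹⁻¹ = z := by group
    rwa [h6] at h5
  have hT : (T : Subgroup P) ≤ normalizer (closure (DS V T 1) : Set P) := by
    intro t ht
    refine hmem t ?_
    ext x
    constructor
    · rintro ⟨h1, h2⟩
      refine ⟨h1, ?_⟩
      have h3 := mul_mem (mul_mem ht h2) ((T : Subgroup P).inv_mem ht)
      have h4 : t * (t⁻¹ * x * t) * t⁻¹ = 1⁻¹ * x * 1 := by group
      rwa [h4] at h3
    · rintro ⟨h1, h2⟩
      refine ⟨h1, ?_⟩
      have h3 := mul_mem (mul_mem ((T : Subgroup P).inv_mem ht) h2) ht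
      have h4 : t⁻¹ * (1⁻¹ * x * 1) * t = t⁻¹ * x * t := by group
      rwa [h4] at h3
  have hM : normalizer (closure (DS V T 1) : Set P) ≤ M := by
    rcases h.max _ hT with h1 | h1
    · exact h1
    · exfalso
      have h2 : (closure (DS V T 1)).Normal := normalizer_eq_top_iff.mp h1
      have h3 := h.core _ h2 ((h.com_DS 1).isPGroup h.faith)
      obtain ⟨d, hd⟩ := h.DS_nonempty
      have h4 : d ∈ closure (DS V T 1) := subset_closure hd
      rw [h3, mem_bot] at h4
      exact (tv_of_mem hd.1).ne_one h4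
  have h5 := (h.v_mem _).mp (hM (hmem _ h0))
  rw [mul_smul, inv_smul_eq_iff] at h5
  exact h5

/-- the uniqueness lemma -/
theorem unique_smul [Finite P] (h : Pt P V T M v0 ψ0) {σ : Set P} (hσ : σ ⊆ DS V T 1)
    (hC : ∀ e ∈ DD P V, (∀ d ∈ σ, d * e = e * d) → e ∈ M) {k : P} (hk : σ ⊆ DS V T k) : k • v0 = v0 := by
  have : Fact (Nat.Prime 2) := ⟨Nat.prime_two⟩
  set X : Subgroup P := closure {e | e ∈ DD P V ∧ ∀ d ∈ σ, d * e = e * d} with hX
  have hXM : X ≤ M := by
    rw [hX, closure_le]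
    rintro e ⟨he, hc⟩
    exact hC e he hc
  have hle : ∀ g : P, σ ⊆ DS V T g → closure (DS V T g) ≤ X := by
    intro g hg
    rw [closure_le]
    intro e he
    exact subset_closure ⟨he.1, fun d hd => (h.com_DS g).2 d (hg hd) e he⟩
  have h1 := hle 1 hσ
  have h2 := hle k hk
  have hp1 : IsPGroup 2 ((closure (DS V T 1)).subgroupOf X) :=
    ((h.com_DS 1).isPGroup h.faith).comap_of_injective X.subtype X.subtype_injective
  have hp2 : IsPGroup 2 ((closure (DS V T k)).subgroupOf X) :=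
    ((h.com_DS k).isPGroup h.faith).comap_of_injective X.subtype X.subtype_injective
  obtain ⟨S1, hS1⟩ := hp1.exists_le_sylow
  obtain ⟨S2, hS2⟩ := hp2.exists_le_sylow
  obtain ⟨x, hx⟩ := MulAction.exists_smul_eq X S2 S1
  -- all in the image of `S1`
  set Q : Subgroup P := (S1 : Subgroup X).map X.subtype with hQ
  have hQp : IsPGroup 2 Q := S1.isPGroup'.map X.subtype
  have hq1 : ∀ d ∈ DS V T 1, d ∈ Q := by
    intro d hd
    have h3 : d ∈ closure (DS V T 1) := subset_closure hd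
    exact ⟨⟨d, h1 h3⟩, hS1 h3, rfl⟩
  have hq2 : ∀ d ∈ DS V T k, (x : P) * d * (x : P)⁻¹ ∈ Q := by
    intro d hd
    have h3 : d ∈ closure (DS V T k) := subset_closure hd
    refine ⟨x * ⟨d, h2 h3⟩ * x⁻¹, ?_, rfl⟩
    change _ ∈ S1
    rw [← hx, mem_smul_sylow]
    have h4 : x⁻¹ * (x * (⟨d, h2 h3⟩ : X) * x⁻¹) * x = ⟨d, h2 h3⟩ := by group
    rw [h4]
    exact hS2 h3
  have hcom : Com V (DS V T 1 ∪ DS V T ((x : P) * k)) := by
    have h5 : ∀ d ∈ DS V T 1 ∪ DS V T ((x : P) * k), d ∈ DD P V ∧ d ∈ Q := by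
      rintro d (hd | hd)
      · exact ⟨hd.1, hq1 d hd⟩
      · refine ⟨hd.1, ?_⟩
        rw [← DS_cj, mem_cj] at hd
        have h6 := hq2 _ hd
        have h7 : (x : P) * ((x : P)⁻¹ * d * x) * (x : P)⁻¹ = d := by group
        rwa [h7] at h6
    exact ⟨fun d hd => (h5 d hd).1, fun d hd e he =>
      h.comm_of_pgroup hQp (h5 d hd).1 (h5 e he).1 (h5 d hd).2 (h5 e he).2⟩
  have h6 := hcom.eq_DS h.faith Set.subset_union_left
  have h7 := hcom.eq_DS h.faith Set.subset_union_right
  have h8 := h.smul_eq_of_DS_eq (h6.symm.trans h7)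
  rw [one_smul, mul_smul] at h8
  have h9 := (h.v_mem _).mp (hXM x.2)
  have h10 : (x : P) • (k • v0) = (x : P) • v0 := by rw [← h8, h9]
  exact smul_left_cancel _ h10

end Pt

end Cfsg.Agent.Omega.Transv
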