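import Cfsg.Agent.Omega.Transv.Basic
import Cfsg.Agent.Lib.SylowNormalInf

/-!
# Minimal parabolics with transvections: the fixed vector of the Sylow subgroup

`Hyp T M`: `P` acts faithfully on `V`, `M` is the only maximal subgroup over the Sylow 2-subgroup `T`, normal
subgroups of even order have no fixed vectors and no fixed functionals, `O₂(P) = 1`, and `P` contains a transvection.
-/

set_option autoImplicit false

namespace Cfsg.Agent.Omega.Transv

open Subgroup

variable {P : Type*} [Group P] {V : Type*} [AddCommGroup V] [Module (ZMod 2) V] [DistribMulAction P V]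

/-- the transvections in `P` -/
def DD (P V : Type*) [Group P] [AddCommGroup V] [Module (ZMod 2) V] [DistribMulAction P V] : Set P :=
  {d | ∃ (a : V) (φ : Du V), Tv d a φ}

/-- the hypotheses -/
structure Hyp (P V : Type*) [Group P] [AddCommGroup V] [Module (ZMod 2) V] [DistribMulAction P V]
    (T : Sylow 2 P) (M : Subgroup P) : Prop where
  faith : Faith P V
  le : (T : Subgroup P) ≤ M
  ne : M ≠ ⊤
  max : ∀ X : Subgroup P, (T : Subgroup P) ≤ X → X ≤ M ∨ X = ⊤
  fix : ∀ N : Subgroup P, N.Normal → 2 ∣ Nat.card N → ∀ v : V, (∀ n ∈ N, n • v = v) → v = 0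
  fixd : ∀ N : Subgroup P, N.Normal → 2 ∣ Nat.card N → ∀ φ : Du V, (∀ n ∈ N, ∀ v : V, φ (n • v) = φ v) →
    φ = 0
  core : ∀ N : Subgroup P, N.Normal → IsPGroup 2 N → N = ⊥
  tv : (DD P V).Nonempty

/-- a 2-group has a nonzero fixed point on a nonzero elementary abelian 2-group -/
theorem exists_fixed {Q W : Type*} [Group Q] [Finite Q] [AddCommGroup W] [Module (ZMod 2) W] [Finite W]
    [DistribMulAction Q W] (hQ : IsPGroup 2 Q) {w : W} (hw : w ≠ 0) :
    ∃ w0 : W, w0 ≠ 0 ∧ ∀ x : Q, x • w0 = w0 := by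
  have : Fact (Nat.Prime 2) := ⟨Nat.prime_two⟩
  have h1 : addOrderOf w = 2 := by
    refine addOrderOf_eq_prime ?_ hw
    rw [two_nsmul]
    exact add_self w
  have h2 : 2 ∣ Nat.card W := h1 ▸ addOrderOf_dvd_natCard w
  have h3 : (0 : W) ∈ MulAction.fixedPoints Q W := fun x => smul_zero x
  obtain ⟨w0, hw0, hne⟩ := hQ.exists_fixed_point_of_prime_dvd_card_of_fixed_point W h2 h3
  exact ⟨w0, fun h => hne h.symm, fun x => hw0 x⟩

theorem mem_DD_conj {d : P} (h : d ∈ DD P V) (g : P) : g * d * g⁻¹ ∈ DD P V := by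
  obtain ⟨a, φ, h⟩ := h
  exact ⟨_, _, h.conj g⟩

theorem even_of_mem [Finite P] (hf : Faith P V) {N : Subgroup P} {d : P} (hd : d ∈ DD P V) (h : d ∈ N) :
    2 ∣ Nat.card N := by
  obtain ⟨a, φ, ht⟩ := hd
  have h1 : orderOf (⟨d, h⟩ : N) = 2 := by
    have : Fact (Nat.Prime 2) := ⟨Nat.prime_two⟩
    refine orderOf_eq_prime ?_ ?_
    · apply Subtype.ext
      change d ^ 2 = 1
      rw [pow_two]
      exact ht.mul_self hf
    · intro h0
      exact ht.ne_one (congrArg Subtype.val h0)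
  exact h1 ▸ orderOf_dvd_natCard _

/-- the fixed points in an abstract module `W` with "axes" `λ_d` -/
theorem exists_point {W : Type*} [AddCommGroup W] [Module (ZMod 2) W] [Finite W] [DistribMulAction P W]
    [Finite P] {T : Sylow 2 P} {M : Subgroup P} (hle : (T : Subgroup P) ≤ M)
    (hmax : ∀ X : Subgroup P, (T : Subgroup P) ≤ X → X ≤ M ∨ X = ⊤)
    {D : Set P} (hfix : ∀ N : Subgroup P, N.Normal → (∃ d ∈ D, d ∈ N) → ∀ w : W, (∀ n ∈ N, n • w = w) → w = 0)
    (hD : ∀ d ∈ D, ∀ g, g * d * g⁻¹ ∈ D) (lam : P → W →ₗ[ZMod 2] ZMod 2)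
    (h0 : ∀ d ∈ D, ∀ w, d • w = w ↔ lam d w = 0)
    (hconj : ∀ d ∈ D, ∀ g w, lam (g * d * g⁻¹) (g • w) = lam d w) (hM : ∃ d ∈ D, d ∉ M)
    (hW : ∃ w : W, w ≠ 0) :
    ∃ w0 : W, w0 ≠ 0 ∧ (∀ g, g ∈ M ↔ g • w0 = w0) ∧ (∀ w, (∀ t ∈ T, t • w = w) → w = 0 ∨ w = w0) := by
  obtain ⟨w, hw⟩ := hW
  obtain ⟨w0, hw0, hfx⟩ := exists_fixed (Q := T) T.isPGroup' hw
  have hfx' : ∀ t ∈ T, t • w0 = w0 := fun t ht => hfx ⟨t, ht⟩
  obtain ⟨d0, hd0, hd0M⟩ := hM
  -- stabilisers of `T`-fixed vectors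
  have hst : ∀ w : W, w ≠ 0 → (∀ t ∈ T, t • w = w) → ∀ g, g • w = w → g ∈ M := by
    intro w hw hT g hg
    rcases hmax (MulAction.stabilizer P w) (fun t ht => hT t ht) with h | h
    · exact h hg
    · exfalso
      apply hw
      refine hfix ⊤ inferInstance ⟨d0, hd0, mem_top _⟩ w fun n _ => ?_
      have h1 : n ∈ MulAction.stabilizer P w := by rw [h]; exact mem_top _
      exact h1
  have hone : ∀ w : W, w ≠ 0 → (∀ t ∈ T, t • w = w) → ∀ d ∈ D, d ∉ M → lam d w = 1 := by
    intro w hw hT d hd hdM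
    refine eq_one_of_ne fun h => hdM ?_
    exact hst w hw hT d ((h0 d hd w).mpr h)
  -- `M` fixes `w0`
  set K : Subgroup P := closure {d | d ∈ D ∧ d ∉ M} with hK
  have hKM : ¬ K ≤ M := fun h => hd0M (h (subset_closure ⟨hd0, hd0M⟩))
  have hKn : K.Normal := by
    have h1 : ∀ g, (g ∈ M ∨ g ∈ K) → g ∈ normalizer (K : Set P) := by
      rintro g (hg | hg)
      · have h2 : ∀ m ∈ M, ∀ x ∈ K, m * x * m⁻¹ ∈ K := by
          intro m hm x hx
          have h3 : K ≤ K.comap (MulAut.conj m).toMonoidHom := by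
            rw [hK, closure_le]
            rintro d ⟨hd, hdM⟩
            refine subset_closure ⟨?_, ?_⟩
            · exact hD d hd m
            · intro h4
              apply hdM
              have h5 := M.mul_mem (M.mul_mem (M.inv_mem hm) h4) hm
              have h6 : m⁻¹ * (MulAut.conj m).toMonoidHom d * m = d := by
                change m⁻¹ * (m * d * m⁻¹) * m = d
                group
              rwa [h6] at h5
          exact h3 hx
        rw [mem_normalizer_iff]
        intro x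
        refine ⟨h2 g hg x, fun h => ?_⟩
        have h3 := h2 g⁻¹ (M.inv_mem hg) _ h
        have h4 : g⁻¹ * (g * x * g⁻¹) * g⁻¹⁻¹ = x := by group
        rwa [h4] at h3
      · exact le_normalizer hg
    have h2 : normalizer (K : Set P) = ⊤ := by
      rcases hmax (normalizer (K : Set P)) (fun t ht => h1 t (Or.inl (hle ht))) with h | h
      · exact absurd (fun g hg => h (h1 g (Or.inr hg))) hKM
      · exact h
    exact normalizer_eq_top_iff.mp h2
  have hMfix : ∀ m ∈ M, m • w0 = w0 := by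
    intro m hm
    have h1 : m • w0 - w0 = 0 := by
      refine hfix K hKn ⟨d0, hd0, subset_closure ⟨hd0, hd0M⟩⟩ _ fun n hn => ?_
      have h2 : K ≤ MulAction.stabilizer P (m • w0 - w0) := by
        rw [hK, closure_le]
        rintro d ⟨hd, hdM⟩
        change d • (m • w0 - w0) = m • w0 - w0
        rw [h0 d hd, map_sub, hone w0 hw0 hfx' d hd hdM]
        have h3 : lam d (m • w0) = 1 := by
          have h4 := hconj (m⁻¹ * d * m) (by simpa using hD d hd m⁻¹) m w0
          have h5 : m * (m⁻¹ * d * m) * m⁻¹ = d := by group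
          rw [h5] at h4
          rw [h4]
          refine hone w0 hw0 hfx' _ (by simpa using hD d hd m⁻¹) fun h => hdM ?_
          have h6 := M.mul_mem (M.mul_mem hm h) (M.inv_mem hm)
          rwa [h5] at h6
        rw [h3, sub_self]
      exact h2 hn
    exact sub_eq_zero.mp h1
  refine ⟨w0, hw0, fun g => ⟨hMfix g, hst w0 hw0 hfx' g⟩, fun w hT => ?_⟩
  by_contra hc
  push Not at hc
  have h1 := hone w hc.1 hT d0 hd0 hd0M
  have h2 := hone w0 hw0 hfx' d0 hd0 hd0M
  have h3 : w + w0 ≠ 0 := fun h => hc.2 (eq_of_add h)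
  have h4 := hone (w + w0) h3 (fun t ht => by rw [smul_add, hT t ht, hfx' t ht]) d0 hd0 hd0M
  rw [map_add, h1, h2] at h4
  exact one_ne (h4.symm.trans one_add_one)

/-- a normal subgroup of even order is not in `M` -/
theorem not_le_of [Finite P] {T : Sylow 2 P} {M : Subgroup P} (hne : M ≠ ⊤)
    (hmax : ∀ X : Subgroup P, (T : Subgroup P) ≤ X → X ≤ M ∨ X = ⊤)
    (hcore : ∀ N : Subgroup P, N.Normal → IsPGroup 2 N → N = ⊥) {N : Subgroup P} (hN : N.Normal)
    (he : 2 ∣ Nat.card N) : ¬ N ≤ M := by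
  intro h
  have : Fact (Nat.Prime 2) := ⟨Nat.prime_two⟩
  have h1 := Lib.SylowNormalInf.normalizer_inf_sup_eq_top T N
  have h0 : (T : Subgroup P) ≤ normalizer (((T : Subgroup P) ⊓ N : Subgroup P) : Set P) := by
    intro t ht
    rw [mem_normalizer_iff]
    intro x
    have h3 : ∀ t ∈ (T : Subgroup P), ∀ x ∈ (T : Subgroup P) ⊓ N, t * x * t⁻¹ ∈ (T : Subgroup P) ⊓ N :=
      fun t ht x hx => ⟨mul_mem (mul_mem ht hx.1) ((T : Subgroup P).inv_mem ht), hN.conj_mem x hx.2 t⟩
    refine ⟨h3 t ht x, fun hx => ?_⟩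
    have h4 := h3 t⁻¹ ((T : Subgroup P).inv_mem ht) _ hx
    have h5 : t⁻¹ * (t * x * t⁻¹) * t⁻¹⁻¹ = x := by group
    rwa [h5] at h4
  rcases hmax _ h0 with h2 | h2
  · apply hne
    rw [eq_top_iff, ← h1]
    exact sup_le h2 h
  · have h3 : ((T : Subgroup P) ⊓ N).Normal := normalizer_eq_top_iff.mp h2
    have h4 := hcore _ h3 (T.isPGroup'.to_le inf_le_left)
    have h5 := Lib.SylowNormalInf.not_dvd_relIndex T N
    rw [← inf_relIndex_right, h4, relIndex_bot_left] at h5
    exact h5 he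

namespace Hyp

variable {T : Sylow 2 P} {M : Subgroup P}

theorem not_le [Finite P] (hH : Hyp P V T M) {N : Subgroup P} (hN : N.Normal) (he : 2 ∣ Nat.card N) :
    ¬ N ≤ M :=
  not_le_of hH.ne hH.max hH.core hN he

/-- some conjugate of a transvection is not in `M` -/
theorem exists_conj_notMem [Finite P] (hH : Hyp P V T M) {d : P} (hd : d ∈ DD P V) :
    ∃ g, g * d * g⁻¹ ∉ M := by
  by_contra hc
  push Not at hc
  have h1 : normalClosure {d} ≤ M := by
    rw [normalClosure, closure_le]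
    intro x hx
    rw [Group.mem_conjugatesOfSet_iff] at hx
    obtain ⟨y, hy, hc'⟩ := hx
    rw [Set.mem_singleton_iff] at hy
    subst hy
    obtain ⟨g, hg⟩ := isConj_iff.mp hc'
    rw [← hg]
    exact hc g
  refine hH.not_le (normalClosure_normal) ?_ h1
  exact even_of_mem hH.faith hd (subset_normalClosure rfl)

end Hyp

end Cfsg.Agent.Omega.Transv
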