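import Cfsg.Agent.Omega.Transv.Points

/-!
# Minimal parabolics with transvections: the action on the points
-/

set_option autoImplicit false

namespace Cfsg.Agent.Omega.Transv

open Subgroup

variable {P : Type*} [Group P] {V : Type*} [AddCommGroup V] [Module (ZMod 2) V] [DistribMulAction P V]

namespace Fr

variable {T : Sylow 2 P} {M : Subgroup P} {v0 : V} {ψ0 : Du V} {ι : Type*} [DecidableEq ι] {D E : ι → P}
  {a b : ι → V} {φ ε : ι → Du V} [Finite P] [Fintype ι] [Nonempty ι]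

theorem exists_ne (h : Fr P V T M v0 ψ0 ι D E a b φ ε) (y : h.Om) : ∃ z, z ≠ y ∧ h.cl z = h.cl y := by
  rcases y with C | ⟨i, s⟩
  · obtain ⟨i, rfl⟩ := Quotient.exists_rep C
    exact ⟨Sum.inr (i, 0), Sum.inr_ne_inl, rfl⟩
  · exact ⟨Sum.inl (h.q i), Sum.inl_ne_inr, rfl⟩

/-- the points are different -/
theorem pt_inj (h : Fr P V T M v0 ψ0 ι D E a b φ ε) : Function.Injective h.pt := by
  intro y z hyz
  by_contra hne
  have h0 : h.pd y (h.pt y) = 0 := eq_zero_of_ne fun h0 => ((h.pd_pt y y).mp h0).2 rfl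
  by_cases hcl : h.cl y = h.cl z
  · have h1 := (h.pd_pt y z).mpr ⟨hcl, hne⟩
    rw [← hyz, h0] at h1
    exact zero_ne_one' h1
  · obtain ⟨u, hu, hcu⟩ := h.exists_ne y
    have h1 := (h.pd_pt u y).mpr ⟨hcu, hu⟩
    rw [hyz] at h1
    exact hcl (hcu.symm.trans ((h.pd_pt u z).mp h1).1)

/-- the sum over a class is zero -/
theorem sum_pt (h : Fr P V T M v0 ψ0 ι D E a b φ ε) (C : h.Cl) [Fintype {z : h.Om // h.cl z = C}] :
    ∑ z : {z : h.Om // h.cl z = C}, h.pt z = 0 := by
  classical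
  let hfin : Fintype h.Cl := Fintype.ofFinite _
  have h1 : ∑ z : {z : h.Om // h.cl z = C}, h.pt z = ∑ z : h.Om, if h.cl z = C then h.pt z else 0 := by
    rw [← Finset.sum_filter]
    exact (Finset.sum_subtype _ (fun z => by simp) h.pt).symm
  rw [h1, Fintype.sum_sum_type, Fintype.sum_prod_type]
  have h2 : ∑ C' : h.Cl, (if h.cl (Sum.inl C') = C then h.pt (Sum.inl C') else 0) = h.vc C := by
    refine (Finset.sum_eq_single C (fun C' _ hC' => if_neg hC') fun h0 => absurd (Finset.mem_univ C) h0).trans ?_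
    exact if_pos rfl
  have h3 : ∀ i : ι, ∑ s : ZMod 2, (if h.cl (Sum.inr (i, s)) = C then h.pt (Sum.inr (i, s)) else 0) =
      if h.q i = C then a i else 0 := by
    intro i
    by_cases hi : h.q i = C
    · rw [if_pos hi]
      refine (Finset.sum_congr rfl fun s _ => if_pos hi).trans ?_
      have h4 : ∑ s : ZMod 2, h.pt (Sum.inr (i, s)) = h.pt (Sum.inr (i, 0)) + h.pt (Sum.inr (i, 1)) :=
        Fin.sum_univ_two _
      rw [h4, pt_inr, pt_inr, cancel_mid, cancel_mid, zero_smul, one_smul, zero_add]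
    · rw [if_neg hi]
      exact Finset.sum_eq_zero fun s _ => if_neg hi
  have h5 : (∑ i : ι, ∑ s : ZMod 2, (if h.cl (Sum.inr (i, s)) = C then h.pt (Sum.inr (i, s)) else 0)) = h.vc C := by
    rw [Finset.sum_congr rfl fun i _ => h3 i, ← Finset.sum_filter]
    rw [vc]
  rw [h2, h5, add_self]

omit [Nonempty ι] in
/-- `T` acts on its own transvections -/
theorem exists_f (h : Fr P V T M v0 ψ0 ι D E a b φ ε) {t : P} (ht : t ∈ T) :
    ∃ f : Equiv.Perm ι, ∀ i, t • a i = a (f i) := by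
  have h2 : ∀ i, ∃ j, t • a i = a j := by
    intro i
    have h3 := (h.hD i).conj t
    obtain ⟨j, hj⟩ := h.surj _ h3.mem (mul_mem (mul_mem ht (h.DT i)) ((T : Subgroup P).inv_mem ht))
    refine ⟨j, ?_⟩
    rw [← hj] at h3
    exact (h3.unique (h.hD j)).1
  choose f hf using h2
  have hinj : Function.Injective f := by
    intro i j hij
    have h4 : t • a i = t • a j := by rw [hf, hf, hij]
    exact h.a_inj (smul_left_cancel t h4)
  exact ⟨Equiv.ofBijective f (Finite.injective_iff_bijective.mp hinj), hf⟩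

theorem exists_s (h : Fr P V T M v0 ψ0 ι D E a b φ ε) {t : P} (ht : t ∈ T) {f : Equiv.Perm ι}
    (hf : ∀ i, t • a i = a (f i)) : ∃ s : ι → ZMod 2, ∀ i, t • b i = b (f i) + s i • a (f i) := by
  have h1 : ∀ i, ∃ s : ZMod 2, t • b i = b (f i) + s • a (f i) := by
    intro i
    have h2 := (h.hE i).conj t
    have h3 : t * E i * t⁻¹ ∉ M := by
      intro h4
      have h5 := M.mul_mem (M.mul_mem (M.inv_mem (h.le ht)) h4) (h.le ht)
      have h6 : t⁻¹ * (t * E i * t⁻¹) * t = E i := by group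
      rw [h6] at h5
      exact h.EM i h5
    obtain ⟨l, s, hl⟩ := h.typeE h2 h3
    have h4 : l = f i := by
      have h5 : (dua t (ε i)) (a (f i)) = 1 := by
        rw [← hf, dua_apply, inv_smul_smul, h.dual, if_pos rfl]
      rw [h.symm h2 (h.hD (f i)), hl, map_add, map_smul, h.orth, smul_zero, add_zero, h.dual'] at h5
      by_contra hne
      rw [if_neg (fun h0 => hne h0.symm)] at h5
      exact zero_ne_one' h5
    subst h4
    exact ⟨s, hl⟩
  choose s hs using h1
  exact ⟨s, hs⟩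

theorem q_iff (h : Fr P V T M v0 ψ0 ι D E a b φ ε) {t : P} {f : Equiv.Perm ι}
    (hf : ∀ i, t • a i = a (f i)) {s : ι → ZMod 2} (hs : ∀ i, t • b i = b (f i) + s i • a (f i)) (i j : ι) :
    h.q i = h.q j ↔ h.q (f i) = h.q (f j) := by
  by_cases hij : i = j
  · subst hij
    exact ⟨fun _ => rfl, fun _ => rfl⟩
  · have hij' : f i ≠ f j := fun h0 => hij (f.injective h0)
    have h1 : ε i (b j) = ε (f j) (b (f i)) := by
      have h2 : ε i (b j) = (dua t (ε i)) (t • b j) := by rw [dua_apply, inv_smul_smul]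
      have h3 := (h.hE i).conj t
      have h4 : (dua t (ε i)) (a (f j)) = 0 := by
        rw [← hf, dua_apply, inv_smul_smul, h.dual, if_neg (fun h0 => hij h0.symm)]
      rw [h2, hs, map_add, map_smul, h4, smul_zero, add_zero, h.symm h3 (h.hE (f j)), hs, map_add, map_smul, h.dual,
        if_neg hij', smul_zero, add_zero]
    rw [h.q_eq, h.q_eq, h1, h.gsymm (f j)]
    constructor
    · rintro (h0 | h0)
      · exact absurd h0 hij
      · exact Or.inr h0
    · rintro (h0 | h0)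
      · exact absurd h0 hij'
      · exact Or.inr h0

theorem smul_vc (h : Fr P V T M v0 ψ0 ι D E a b φ ε) {t : P} {f : Equiv.Perm ι}
    (hf : ∀ i, t • a i = a (f i)) (hq : ∀ i j, h.q i = h.q j ↔ h.q (f i) = h.q (f j)) (i : ι) :
    t • h.vc (h.q i) = h.vc (h.q (f i)) := by
  classical
  rw [vc, vc, Finset.smul_sum]
  refine Finset.sum_equiv f ?_ ?_
  · intro j
    simp only [Finset.mem_filter, Finset.mem_univ, true_and]
    exact hq j i
  · intro j _
    exact hf j

/-- acts on the points -/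
def Good (h : Fr P V T M v0 ψ0 ι D E a b φ ε) (g : P) : Prop :=
  ∃ π : Equiv.Perm h.Om, (∀ z, g • h.pt z = h.pt (π z)) ∧ ∀ z z', h.cl z = h.cl z' ↔ h.cl (π z) = h.cl (π z')

theorem good_T (h : Fr P V T M v0 ψ0 ι D E a b φ ε) {t : P} (ht : t ∈ T) : h.Good t := by
  obtain ⟨f, hf⟩ := h.exists_f ht
  obtain ⟨s, hs⟩ := h.exists_s ht hf
  have hq := h.q_iff hf hs
  have h1 : ∀ z, ∃ z', t • h.pt z = h.pt z' ∧ ∃ i, h.cl z = h.q i ∧ h.cl z' = h.q (f i) := by
    intro z
    rcases z with C | ⟨i, r⟩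
    · obtain ⟨i, rfl⟩ := Quotient.exists_rep C
      refine ⟨Sum.inl (h.q (f i)), ?_, i, rfl, rfl⟩
      rw [pt_inl, pt_inl]
      exact h.smul_vc hf hq i
    · refine ⟨Sum.inr (f i, s i + r), ?_, i, rfl, rfl⟩
      rw [pt_inr, pt_inr, smul_add, smul_add, smul_zmod, h.smul_vc hf hq, hf, hs, add_smul]
      abel
  choose π hπ i h2 h3 using h1
  have hinj : Function.Injective π := by
    intro z z' hz
    have h4 : t • h.pt z = t • h.pt z' := by rw [hπ, hπ, hz]
    exact h.pt_inj (smul_left_cancel t h4)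
  refine ⟨Equiv.ofBijective π (Finite.injective_iff_bijective.mp hinj), hπ, fun z z' => ?_⟩
  change h.cl z = h.cl z' ↔ h.cl (π z) = h.cl (π z')
  rw [h2 z, h2 z', h3 z, h3 z', hq]

theorem good_E (h : Fr P V T M v0 ψ0 ι D E a b φ ε) (l : ι) : h.Good (E l) := by
  classical
  have h1 : h.pt (Sum.inl (h.q l)) + h.pt (Sum.inr (l, 0)) = b l := by
    rw [pt_inl, pt_inr, ← add_assoc, add_self, zero_add, zero_smul, add_zero]
  have h2 : h.pd (Sum.inl (h.q l)) + h.pd (Sum.inr (l, 0)) = ε l := by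
    rw [pd_inl, pd_inr, ← add_assoc, add_self, zero_add, zero_smul, add_zero]
  have h3 := h.hE l
  rw [← h1, ← h2] at h3
  have hc : h.cl (Sum.inl (h.q l)) = h.cl (Sum.inr (l, (0 : ZMod 2))) := rfl
  refine ⟨Equiv.swap (Sum.inl (h.q l)) (Sum.inr (l, 0)), h.smul_pt Sum.inl_ne_inr hc h3, fun z z' => ?_⟩
  have h4 : ∀ z, h.cl (Equiv.swap (Sum.inl (h.q l)) (Sum.inr (l, 0)) z) = h.cl z := by
    intro z
    by_cases h5 : z = Sum.inl (h.q l)
    · subst h5
      rw [Equiv.swap_apply_left]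
      rfl
    · by_cases h6 : z = Sum.inr (l, 0)
      · subst h6
        rw [Equiv.swap_apply_right]
        rfl
      · rw [Equiv.swap_apply_of_ne_of_ne h5 h6]
  rw [h4, h4]

/-- the elements acting on the points form a subgroup -/
def goodSub (h : Fr P V T M v0 ψ0 ι D E a b φ ε) : Subgroup P where
  carrier := {g | h.Good g}
  one_mem' := ⟨1, fun z => by rw [one_smul, Equiv.Perm.one_apply], fun z z' => Iff.rfl⟩
  mul_mem' := by
    rintro g k ⟨π, h1, h2⟩ ⟨ρ, h3, h4⟩
    refine ⟨π * ρ, fun z => ?_, fun z z' => ?_⟩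
    · rw [mul_smul, h3, h1, Equiv.Perm.mul_apply]
    · rw [Equiv.Perm.mul_apply, Equiv.Perm.mul_apply, ← h2, ← h4]
  inv_mem' := by
    rintro g ⟨π, h1, h2⟩
    refine ⟨π.symm, fun z => ?_, fun z z' => ?_⟩
    · rw [inv_smul_eq_iff, h1, Equiv.apply_symm_apply]
    · rw [h2 (π.symm z), Equiv.apply_symm_apply, Equiv.apply_symm_apply]

theorem good (h : Fr P V T M v0 ψ0 ι D E a b φ ε) (g : P) : h.Good g := by
  have h1 : (T : Subgroup P) ≤ h.goodSub := fun t ht => h.good_T ht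
  obtain ⟨l⟩ := ‹Nonempty ι›
  have h2 : h.goodSub = ⊤ := by
    rcases h.max _ h1 with h3 | h3
    · exact absurd (h3 (h.good_E l)) (h.EM l)
    · exact h3
  have h3 : g ∈ h.goodSub := by
    rw [h2]
    exact mem_top g
  exact h3

/-- `T` acts transitively on the classes, and permutes the fixed points -/
theorem trans_vc (h : Fr P V T M v0 ψ0 ι D E a b φ ε) (C C' : h.Cl) : ∃ t ∈ T, t • h.vc C = h.vc C' := by
  obtain ⟨i, rfl⟩ := Quotient.exists_rep C
  obtain ⟨j, rfl⟩ := Quotient.exists_rep C'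
  obtain ⟨t, ht, htj⟩ := h.trans i j
  obtain ⟨f, hf⟩ := h.exists_f ht
  obtain ⟨s, hs⟩ := h.exists_s ht hf
  have hfi : f i = j := by
    have h1 := (h.hD i).conj t
    rw [← htj] at h1
    have h2 := (h1.unique (h.hD j)).1
    rw [hf] at h2
    exact h.a_inj h2
  refine ⟨t, ht, ?_⟩
  rw [← hfi]
  exact h.smul_vc hf (h.q_iff hf hs) i

theorem smul_vc' (h : Fr P V T M v0 ψ0 ι D E a b φ ε) {t : P} (ht : t ∈ T) (C : h.Cl) :
    ∃ C', t • h.vc C = h.vc C' := by
  obtain ⟨i, rfl⟩ := Quotient.exists_rep C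
  obtain ⟨f, hf⟩ := h.exists_f ht
  obtain ⟨s, hs⟩ := h.exists_s ht hf
  exact ⟨_, h.smul_vc hf (h.q_iff hf hs) i⟩

/-- all classes have the same size -/
theorem card_q (h : Fr P V T M v0 ψ0 ι D E a b φ ε) (C C' : h.Cl) :
    Nat.card {i // h.q i = C} = Nat.card {i // h.q i = C'} := by
  obtain ⟨i, rfl⟩ := Quotient.exists_rep C
  obtain ⟨j, rfl⟩ := Quotient.exists_rep C'
  obtain ⟨t, ht, htj⟩ := h.trans i j
  obtain ⟨f, hf⟩ := h.exists_f ht
  obtain ⟨s, hs⟩ := h.exists_s ht hf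
  have hfi : f i = j := by
    have h1 := (h.hD i).conj t
    rw [← htj] at h1
    have h2 := (h1.unique (h.hD j)).1
    rw [hf] at h2
    exact h.a_inj h2
  refine Nat.card_congr (f.subtypeEquiv fun k => ?_)
  have h1 := h.q_iff hf hs k i
  rw [hfi] at h1
  exact h1

end Fr

end Cfsg.Agent.Omega.Transv
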