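import Cfsg.Agent.Omega.Transv.Classes

/-!
# Minimal parabolics with transvections: the points

The centres of the transvections are the sums of two points of the same class.
-/

set_option autoImplicit false

namespace Cfsg.Agent.Omega.Transv

open Subgroup

variable {P : Type*} [Group P] {V : Type*} [AddCommGroup V] [Module (ZMod 2) V] [DistribMulAction P V]

namespace Fr

variable {T : Sylow 2 P} {M : Subgroup P} {v0 : V} {ψ0 : Du V} {ι : Type*} [DecidableEq ι] {D E : ι → P}
  {a b : ι → V} {φ ε : ι → Du V}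

/-- the classes -/
def std [Finite P] [Fintype ι] [Nonempty ι] (h : Fr P V T M v0 ψ0 ι D E a b φ ε) : Setoid ι where
  r i j := i = j ∨ ε i (b j) = 1
  iseqv :=
    { refl := fun i => Or.inl rfl
      symm := by
        rintro i j (hij | hij)
        · exact Or.inl hij.symm
        · exact Or.inr (by rw [h.gsymm, hij])
      trans := by
        rintro i j k (hij | hij) (hjk | hjk)
        · exact Or.inl (hij.trans hjk)
        · exact Or.inr (by rw [hij, hjk])
        · exact Or.inr (by rw [← hjk, hij])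
        · by_cases h1 : i = k
          · exact Or.inl h1
          · refine Or.inr (h.gtrans ?_ ?_ h1 hij hjk)
            · rintro rfl
              rw [(h.hE i).self] at hij
              exact zero_ne_one' hij
            · rintro rfl
              rw [(h.hE j).self] at hjk
              exact zero_ne_one' hjk }

variable [Finite P] [Fintype ι] [Nonempty ι]

/-- the set of the classes -/
abbrev Cl (h : Fr P V T M v0 ψ0 ι D E a b φ ε) : Type _ := Quotient h.std

/-- the class of an index -/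
def q (h : Fr P V T M v0 ψ0 ι D E a b φ ε) (i : ι) : h.Cl := Quotient.mk h.std i

theorem q_eq (h : Fr P V T M v0 ψ0 ι D E a b φ ε) {i j : ι} : h.q i = h.q j ↔ i = j ∨ ε i (b j) = 1 :=
  ⟨fun h1 => Quotient.exact h1, fun h1 => Quotient.sound h1⟩

theorem eps_b (h : Fr P V T M v0 ψ0 ι D E a b φ ε) [DecidableEq h.Cl] (i j : ι) :
    ε i (b j) = if h.q i = h.q j ∧ i ≠ j then 1 else 0 := by
  by_cases hij : i = j
  · subst hij
    rw [(h.hE i).self, if_neg (fun h1 => h1.2 rfl)]
  · by_cases h1 : h.q i = h.q j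
    · rw [if_pos ⟨h1, hij⟩]
      exact (h.q_eq.mp h1).resolve_left hij
    · rw [if_neg (fun h2 => h1 h2.1)]
      exact eq_zero_of_ne fun h2 => h1 (h.q_eq.mpr (Or.inr h2))

/-- the points -/
abbrev Om (h : Fr P V T M v0 ψ0 ι D E a b φ ε) : Type _ := h.Cl ⊕ (ι × ZMod 2)

/-- the class of a point -/
def cl (h : Fr P V T M v0 ψ0 ι D E a b φ ε) : h.Om → h.Cl := Sum.elim id fun p => h.q p.1

open Classical in
/-- the fixed point of a class -/
noncomputable def vc (h : Fr P V T M v0 ψ0 ι D E a b φ ε) (C : h.Cl) : V := ∑ i with h.q i = C, a i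

open Classical in
/-- the dual fixed point of a class -/
noncomputable def pc (h : Fr P V T M v0 ψ0 ι D E a b φ ε) (C : h.Cl) : Du V := ∑ i with h.q i = C, φ i

/-- the vector of a point -/
noncomputable def pt (h : Fr P V T M v0 ψ0 ι D E a b φ ε) : h.Om → V :=
  Sum.elim h.vc fun p => h.vc (h.q p.1) + (b p.1 + p.2 • a p.1)

/-- the functional of a point -/
noncomputable def pd (h : Fr P V T M v0 ψ0 ι D E a b φ ε) : h.Om → Du V :=
  Sum.elim h.pc fun p => h.pc (h.q p.1) + (ε p.1 + p.2 • φ p.1)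

theorem phi_vc (h : Fr P V T M v0 ψ0 ι D E a b φ ε) (i : ι) (C : h.Cl) : φ i (h.vc C) = 0 := by
  rw [vc]
  exact h.orth_sum i _

theorem eps_vc (h : Fr P V T M v0 ψ0 ι D E a b φ ε) [DecidableEq h.Cl] (i : ι) (C : h.Cl) :
    ε i (h.vc C) = if h.q i = C then 1 else 0 := by
  rw [vc, h.dual_sum]
  simp

theorem pc_a (h : Fr P V T M v0 ψ0 ι D E a b φ ε) (i : ι) (C : h.Cl) : h.pc C (a i) = 0 := by
  rw [pc, LinearMap.sum_apply]
  exact Finset.sum_eq_zero fun j _ => h.orth j i

theorem pc_b (h : Fr P V T M v0 ψ0 ι D E a b φ ε) [DecidableEq h.Cl] (i : ι) (C : h.Cl) :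
    h.pc C (b i) = if h.q i = C then 1 else 0 := by
  rw [pc, LinearMap.sum_apply]
  simp only [h.dual']
  rw [Finset.sum_ite_eq']
  simp

theorem pc_vc (h : Fr P V T M v0 ψ0 ι D E a b φ ε) (C C' : h.Cl) : h.pc C (h.vc C') = 0 := by
  rw [vc, map_sum]
  exact Finset.sum_eq_zero fun j _ => h.pc_a j C

@[simp] theorem cl_inl (h : Fr P V T M v0 ψ0 ι D E a b φ ε) (C : h.Cl) : h.cl (Sum.inl C) = C := rfl

@[simp] theorem cl_inr (h : Fr P V T M v0 ψ0 ι D E a b φ ε) (p : ι × ZMod 2) : h.cl (Sum.inr p) = h.q p.1 := rfl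

theorem pt_inl (h : Fr P V T M v0 ψ0 ι D E a b φ ε) (C : h.Cl) : h.pt (Sum.inl C) = h.vc C := rfl

theorem pt_inr (h : Fr P V T M v0 ψ0 ι D E a b φ ε) (i : ι) (s : ZMod 2) :
    h.pt (Sum.inr (i, s)) = h.vc (h.q i) + (b i + s • a i) := rfl

theorem pd_inl (h : Fr P V T M v0 ψ0 ι D E a b φ ε) (C : h.Cl) : h.pd (Sum.inl C) = h.pc C := rfl

theorem pd_inr (h : Fr P V T M v0 ψ0 ι D E a b φ ε) (i : ι) (s : ZMod 2) :
    h.pd (Sum.inr (i, s)) = h.pc (h.q i) + (ε i + s • φ i) := rfl

/-- the Gram matrix -/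
theorem pd_pt (h : Fr P V T M v0 ψ0 ι D E a b φ ε) (y z : h.Om) :
    h.pd y (h.pt z) = 1 ↔ h.cl y = h.cl z ∧ y ≠ z := by
  classical
  rcases y with C | ⟨i, s⟩
  · rcases z with C' | ⟨j, t⟩
    · rw [pd_inl, pt_inl, h.pc_vc, cl_inl, cl_inl]
      refine ⟨fun h1 => absurd h1 zero_ne_one', ?_⟩
      rintro ⟨rfl, h1⟩
      exact absurd rfl h1
    · rw [pd_inl, pt_inr, cl_inl, cl_inr, map_add, map_add, map_smul, h.pc_vc, h.pc_b, h.pc_a, smul_zero, zero_add,
        add_zero]
      by_cases hC : h.q j = C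
      · simp [hC]
      · have hC' : ¬ C = h.q j := fun h0 => hC h0.symm
        simp [hC, hC']
  · rcases z with C' | ⟨j, t⟩
    · rw [pd_inr, pt_inl, cl_inl, cl_inr, LinearMap.add_apply, LinearMap.add_apply, LinearMap.smul_apply, h.pc_vc,
        h.eps_vc, h.phi_vc, smul_zero, zero_add, add_zero]
      by_cases hC : h.q i = C'
      · simp [hC]
      · simp [hC]
    · rw [pd_inr, pt_inr, cl_inr, cl_inr]
      simp only [LinearMap.add_apply, LinearMap.smul_apply, map_add, map_smul, h.pc_vc, h.pc_a, h.phi_vc, h.pc_b,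
        h.eps_vc, h.orth, h.dual, h.dual', h.eps_b]
      by_cases hij : i = j
      · subst hij
        rcases zmod_cases s with hs | hs
        · rcases zmod_cases t with ht | ht
          · simp [hs, ht, one_add_one]
          · simp [hs, ht, one_add_one]
        · rcases zmod_cases t with ht | ht
          · simp [hs, ht, one_add_one]
          · simp [hs, ht, one_add_one]
      · by_cases hq : h.q i = h.q j
        · simp [hij, hq, one_add_one, eq_comm]
        · simp [hij, hq, eq_comm]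

omit [Fintype ι] [Nonempty ι] in
theorem hEs (h : Fr P V T M v0 ψ0 ι D E a b φ ε) (i : ι) (s : ZMod 2) :
    ∃ c, c ∉ M ∧ Tv c (b i + s • a i) (ε i + s • φ i) := by
  rcases zmod_cases s with rfl | rfl
  · refine ⟨E i, h.EM i, ?_⟩
    rw [zero_smul, zero_smul, add_zero, add_zero]
    exact h.hE i
  · refine ⟨_, h.EM' i, ?_⟩
    rw [one_smul, one_smul, add_comm (b i), add_comm (ε i)]
    exact h.hE' i

theorem cancel_mid {W : Type*} [AddCommGroup W] [Module (ZMod 2) W] (u v w : W) : u + v + (u + w) = v + w := by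
  rw [add_comm u v, add_assoc, ← add_assoc u u w, add_self, zero_add]

theorem cancel_right {W : Type*} [AddCommGroup W] [Module (ZMod 2) W] (u v : W) : u + v + u = v := by
  rw [add_comm u v, add_add_self]

/-- sums of two points of a class are centres -/
theorem exists_tv (h : Fr P V T M v0 ψ0 ι D E a b φ ε) {z z' : h.Om} (hne : z ≠ z') (hcl : h.cl z = h.cl z') :
    ∃ c : P, Tv c (h.pt z + h.pt z') (h.pd z + h.pd z') := by
  rcases z with C | ⟨i, s⟩
  · rcases z' with C' | ⟨j, t⟩
    · rw [cl_inl, cl_inl] at hcl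
      exact absurd (by rw [hcl]) hne
    · rw [cl_inl, cl_inr] at hcl
      obtain ⟨c, -, hc⟩ := h.hEs j t
      refine ⟨c, ?_⟩
      rw [pt_inl, pd_inl, pt_inr, pd_inr, hcl, ← add_assoc, ← add_assoc (h.pc _), add_self, add_self, zero_add,
        zero_add]
      exact hc
  · rcases z' with C' | ⟨j, t⟩
    · rw [cl_inl, cl_inr] at hcl
      obtain ⟨c, -, hc⟩ := h.hEs i s
      refine ⟨c, ?_⟩
      rw [pt_inl, pd_inl, pt_inr, pd_inr, ← hcl, cancel_right, cancel_right]
      exact hc
    · rw [cl_inr, cl_inr] at hcl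
      rw [pt_inr, pd_inr, pt_inr, pd_inr, ← hcl, cancel_mid, cancel_mid]
      by_cases hij : i = j
      · subst hij
        refine ⟨D i, ?_⟩
        rw [cancel_mid, cancel_mid, ← add_smul, ← add_smul]
        have hst : s + t = 1 := by
          refine eq_one_of_ne fun h0 => hne ?_
          rw [show s = t from eq_of_add h0]
        rw [hst, one_smul, one_smul]
        exact h.hD i
      · obtain ⟨c, -, hc⟩ := h.hEs i s
        obtain ⟨c', -, hc'⟩ := h.hEs j t
        refine ⟨_, h.third hc hc' ?_⟩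
        rw [LinearMap.add_apply, LinearMap.smul_apply, map_add, map_add, map_smul, map_smul, h.dual, h.orth, h.dual',
          if_neg (fun h0 => hij h0.symm), if_neg hij, smul_zero, add_zero, add_zero, smul_zero, add_zero]
        exact (h.q_eq.mp hcl).resolve_left hij

/-- all centres are sums of two points of a class -/
theorem exists_pair (h : Fr P V T M v0 ψ0 ι D E a b φ ε) {c : P} {x : V} {χ : Du V} (hc : Tv c x χ) :
    ∃ z z' : h.Om, z ≠ z' ∧ h.cl z = h.cl z' ∧ x = h.pt z + h.pt z' := by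
  by_cases hM : c ∈ M
  · by_cases hT : ∃ i, D i = c
    · obtain ⟨i, rfl⟩ := hT
      refine ⟨Sum.inr (i, 0), Sum.inr (i, 1), ?_, rfl, ?_⟩
      · intro h0
        exact zero_ne_one' (congrArg Prod.snd (Sum.inr_injective h0))
      · rw [pt_inr, pt_inr, cancel_mid, cancel_mid, zero_smul, one_smul, zero_add]
        exact (hc.unique (h.hD i)).1
    · push Not at hT
      obtain ⟨i, j, hij, h1, s, t, hx⟩ := h.typeF hc hM hT
      have hq : h.q i = h.q j := h.q_eq.mpr (Or.inr h1)
      refine ⟨Sum.inr (i, s), Sum.inr (j, t), ?_, hq, ?_⟩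
      · intro h0
        exact hij (congrArg Prod.fst (Sum.inr_injective h0))
      · rw [pt_inr, pt_inr, ← hq, cancel_mid]
        exact hx
  · obtain ⟨l, s, hx⟩ := h.typeE hc hM
    refine ⟨Sum.inl (h.q l), Sum.inr (l, s), Sum.inl_ne_inr, rfl, ?_⟩
    rw [pt_inl, pt_inr, ← add_assoc, add_self, zero_add]
    exact hx

/-- transvections act as transpositions -/
theorem smul_pt (h : Fr P V T M v0 ψ0 ι D E a b φ ε) [DecidableEq h.Om] {z z' : h.Om} (hne : z ≠ z')
    (hcl : h.cl z = h.cl z') {c : P} (hc : Tv c (h.pt z + h.pt z') (h.pd z + h.pd z')) (y : h.Om) :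
    c • h.pt y = h.pt (Equiv.swap z z' y) := by
  rw [hc.act, LinearMap.add_apply]
  by_cases h1 : y = z
  · subst h1
    rw [Equiv.swap_apply_left, (h.pd_pt z' y).mpr ⟨hcl.symm, hne.symm⟩]
    have h2 : h.pd y (h.pt y) = 0 := eq_zero_of_ne fun h0 => ((h.pd_pt y y).mp h0).2 rfl
    rw [h2, zero_add, one_smul, ← add_assoc, add_self, zero_add]
  · by_cases h2 : y = z'
    · subst h2
      rw [Equiv.swap_apply_right, (h.pd_pt z y).mpr ⟨hcl, hne⟩]
      have h2 : h.pd y (h.pt y) = 0 := eq_zero_of_ne fun h0 => ((h.pd_pt y y).mp h0).2 rfl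
      rw [h2, add_zero, one_smul, add_comm (h.pt z), ← add_assoc, add_self, zero_add]
    · rw [Equiv.swap_apply_of_ne_of_ne h1 h2]
      by_cases h3 : h.cl z = h.cl y
      · rw [(h.pd_pt z y).mpr ⟨h3, fun h0 => h1 h0.symm⟩, (h.pd_pt z' y).mpr ⟨hcl.symm.trans h3, fun h0 => h2 h0.symm⟩,
          one_add_one, zero_smul, add_zero]
      · have h4 : h.pd z (h.pt y) = 0 := eq_zero_of_ne fun h0 => h3 ((h.pd_pt z y).mp h0).1
        have h5 : h.pd z' (h.pt y) = 0 := eq_zero_of_ne fun h0 => h3 (hcl.trans ((h.pd_pt z' y).mp h0).1)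
        rw [h4, h5, zero_add, zero_smul, add_zero]

end Fr

end Cfsg.Agent.Omega.Transv
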